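import Groth.Agent.L09.EtCoh.Qcoh
import Mathlib.CategoryTheory.Sites.ConstantSheaf
import Mathlib.CategoryTheory.Sites.SheafCohomology.Basic

/-!
# Cohomology as maps out of the free sheaf on a terminal object
-/

universe u

open CategoryTheory CategoryTheory.Limits AlgebraicGeometry Opposite AlgSp CategoryTheory.Abelian

set_option autoImplicit false
set_option linter.style.haveILetI false
set_option backward.isDefEq.respectTransparency false
set_option backward.isDefEq.respectTransparency.types false

noncomputable section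

namespace Groth.L09.EtCoh

variable {S : Scheme.{u}} {X : Sp S}

/-- The constant presheaf of integers. -/
abbrev zP (X : Sp S) : (EtOver X)ᵒᵖ ⥤ AddCommGrpCat.{u + 1} :=
  (Functor.const _).obj (AddCommGrpCat.of (ULift.{u + 1} ℤ))

/-- The constant presheaf is the free presheaf on a terminal object. -/
def zIso {E : EtOver X} (hE : IsTerminal E) : zP X ≅ fp E where
  hom :=
    { app := fun W => AddCommGrpCat.ofHom
        ((zmultiplesHom ((fp E).obj W) (gen (hE.from W.unop))).comp AddEquiv.ulift.toAddMonoidHom)
      naturality := fun W W' a => by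
        refine AddCommGrpCat.hom_ext (AddMonoidHom.ext fun n => ?_)
        show n.down • gen (hE.from W'.unop) = (fp E).map a.unop.op (n.down • gen (hE.from W.unop))
        rw [map_zsmul, fp_map_gen]
        exact congrArg (fun g => n.down • gen g) (hE.hom_ext _ _) }
  inv := fromGen (ULift.up.{u + 1} (1 : ℤ))
  hom_inv_id := NatTrans.ext (funext fun W => AddCommGrpCat.hom_ext (AddMonoidHom.ext fun n => by
    show (fromGen (P := zP X) (ULift.up.{u + 1} (1 : ℤ))).app W (n.down • gen (hE.from W.unop)) = n
    rw [map_zsmul, fromGen_gen]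
    show n.down • ULift.up.{u + 1} (1 : ℤ) = n
    ext
    simp))
  inv_hom_id := fp_hom_ext (by
    rw [NatTrans.comp_app, ConcreteCategory.comp_apply, fromGen_gen]
    show (1 : ℤ) • gen (hE.from E) = gen (𝟙 E)
    rw [one_smul, hE.hom_ext (hE.from E) (𝟙 E)])

/-- The constant sheaf is the free sheaf on a terminal object. -/
def constIso {E : EtOver X} (hE : IsTerminal E) :
    (constantSheaf (etTop X) AddCommGrpCat.{u + 1}).obj (AddCommGrpCat.of (ULift.{u + 1} ℤ)) ≅ fsh E :=
  (presheafToSheaf (etTop X) AddCommGrpCat.{u + 1}).mapIso (zIso hE)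

/-- Acyclicity of sheaves with exact Cech complexes on an affine final object. -/
theorem subsingleton_hEt {E : EtOver X} (hE : IsTerminal E) (hA : IsAffine E.obj.left.left) (G : AbEt X)
    (hG : Cok G) (n : ℕ) (hn : 0 < n) : Subsingleton (HEt X G n) := by
  obtain ⟨m, rfl⟩ : ∃ m, n = m + 1 := ⟨n - 1, by omega⟩
  haveI := subsingleton_ext m G hG E hA
  refine subsingleton_of_forall_eq 0 fun x => ?_
  have h : (Ext.mk₀ (constIso hE).hom).comp ((Ext.mk₀ (constIso hE).inv).comp x (zero_add _)) (zero_add _) = x := by
    rw [Ext.mk₀_comp_mk₀_assoc, Iso.hom_inv_id, Ext.mk₀_id_comp]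
  rw [← h, Subsingleton.elim ((Ext.mk₀ (constIso hE).inv).comp x (zero_add _)) 0, Ext.comp_zero]

/-- The final object of the site of a representable space. -/
theorem exists_terminal {T : Over S} (e : (yon S).obj T ≅ X) :
    ∃ (E : EtOver X) (_ : IsTerminal E), E.obj.left = T := by
  haveI := (repWith_isStableUnderBaseChange (S := S) @Etale).respectsIso
  let E : EtOver X := EtOver.mk e.hom (MorphismProperty.of_isIso _ e.hom)
  exact ⟨E, IsTerminal.ofUniqueHom
    (fun W => EtOver.homMk ((yon S).preimage (W.obj.hom ≫ e.inv)) (by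
      show (yon S).map ((yon S).preimage (W.obj.hom ≫ e.inv)) ≫ e.hom = W.obj.hom
      rw [Functor.map_preimage, Category.assoc, e.inv_hom_id, Category.comp_id]))
    (fun W m => EtOver.hom_ext _ _ ((yon S).map_injective (by
      show (yon S).map m.hom.left = (yon S).map ((yon S).preimage (W.obj.hom ≫ e.inv))
      rw [Functor.map_preimage, ← cancel_mono e.hom, Category.assoc, e.inv_hom_id, Category.comp_id]
      exact EtOver.w m))), rfl⟩

end Groth.L09.EtCoh
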