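import Mathlib.AlgebraicTopology.AlternatingFaceMapComplex
import Mathlib.CategoryTheory.Limits.Shapes.Pullback.HasPullback
import Mathlib.CategoryTheory.Comma.Over.Basic
import Mathlib.Algebra.Category.Grp.Adjunctions
import Mathlib.Algebra.Category.Grp.Colimits
import Mathlib.CategoryTheory.Yoneda

/-!
# Fibre powers of a morphism and their Cech complexes
-/

universe w v u

open CategoryTheory CategoryTheory.Limits Opposite Simplicial

set_option autoImplicit false
set_option backward.isDefEq.respectTransparency false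
set_option backward.isDefEq.respectTransparency.types false

noncomputable section

namespace Groth.L09.EtCoh

variable {C : Type w} [Category.{v} C] [HasPullbacks C] {E V : C} (d : V ⟶ E)

/-- The fibre powers as objects over the base. -/
def powAux : ℕ → Over E
  | 0 => Over.mk d
  | n + 1 => Over.mk (pullback.fst d (powAux n).hom ≫ d)

/-- The fibre power with `n + 1` factors. -/
abbrev pow (n : ℕ) : C := (powAux d n).left

/-- Its structure map. -/
abbrev pstr (n : ℕ) : pow d n ⟶ E := (powAux d n).hom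

/-- The projections. -/
def π : ∀ n, Fin (n + 1) → (pow d n ⟶ V)
  | 0, _ => 𝟙 V
  | n + 1, i => Fin.cases (pullback.fst d (pstr d n)) (fun j => pullback.snd d (pstr d n) ≫ π n j) i

theorem π_zero (i : Fin 1) : π d 0 i = 𝟙 V := rfl

theorem π_succ_zero (n : ℕ) : π d (n + 1) 0 = pullback.fst d (pstr d n) := rfl

theorem π_succ_succ (n : ℕ) (i : Fin (n + 1)) :
    π d (n + 1) i.succ = pullback.snd d (pstr d n) ≫ π d n i := rfl

theorem π_w : ∀ n (i : Fin (n + 1)), π d n i ≫ d = pstr d n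
  | 0, _ => Category.id_comp _
  | n + 1, i => by
    refine Fin.cases ?_ (fun j => ?_) i
    · rfl
    · rw [π_succ_succ, Category.assoc, π_w n j]
      exact pullback.condition.symm

theorem pow_hom_ext {T : C} : ∀ {n : ℕ} {a b : T ⟶ pow d n}, (∀ i, a ≫ π d n i = b ≫ π d n i) → a = b
  | 0, a, b, h => (Category.comp_id a).symm.trans ((h 0).trans (Category.comp_id b))
  | n + 1, a, b, h => pullback.hom_ext (h 0) (pow_hom_ext fun i => by
      rw [Category.assoc, Category.assoc]
      exact h i.succ)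

theorem exists_lift {T : C} : ∀ {n : ℕ} (r : Fin (n + 1) → (T ⟶ V)), (∀ i, r i ≫ d = r 0 ≫ d) →
    ∃ a : T ⟶ pow d n, ∀ i, a ≫ π d n i = r i
  | 0, r, _ => ⟨r 0, fun i => by rw [Fin.fin_one_eq_zero i]; exact Category.comp_id _⟩
  | n + 1, r, h => by
    obtain ⟨t, ht⟩ := exists_lift (fun i => r i.succ) fun i => (h i.succ).trans (h (Fin.succ 0)).symm
    have hw : r 0 ≫ d = t ≫ pstr d n := by
      rw [← π_w d n 0, ← Category.assoc, ht 0, h (Fin.succ 0)]
    refine ⟨pullback.lift (r 0) t hw, fun i => ?_⟩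
    refine Fin.cases ?_ (fun j => ?_) i
    · exact pullback.lift_fst _ _ _
    · rw [π_succ_succ, pullback.lift_snd_assoc, ht]

/-- The morphism with given projections. -/
def plift {T : C} {n : ℕ} (r : Fin (n + 1) → (T ⟶ V)) (h : ∀ i, r i ≫ d = r 0 ≫ d) : T ⟶ pow d n :=
  (exists_lift d r h).choose

theorem plift_π {T : C} {n : ℕ} (r : Fin (n + 1) → (T ⟶ V)) (h : ∀ i, r i ≫ d = r 0 ≫ d) (i : Fin (n + 1)) :
    plift d r h ≫ π d n i = r i :=
  (exists_lift d r h).choose_spec i

/-- The map of fibre powers along a map of index sets. -/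
def pmap {m n : ℕ} (σ : Fin (n + 1) → Fin (m + 1)) : pow d m ⟶ pow d n :=
  plift d (fun i => π d m (σ i)) fun i => by rw [π_w, π_w]

theorem pmap_π {m n : ℕ} (σ : Fin (n + 1) → Fin (m + 1)) (i : Fin (n + 1)) :
    pmap d σ ≫ π d n i = π d m (σ i) :=
  plift_π d _ _ i

/-- The fibre powers as a simplicial object. -/
def nerve : SimplexCategoryᵒᵖ ⥤ C where
  obj n := pow d n.unop.len
  map f := pmap d f.unop.toOrderHom
  map_id n := pow_hom_ext d fun i => by rw [pmap_π, Category.id_comp]; rfl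
  map_comp f g := pow_hom_ext d fun i => by rw [pmap_π, Category.assoc, pmap_π, pmap_π]; rfl

/-- The face maps. -/
def face (n : ℕ) (j : Fin (n + 2)) : pow d (n + 1) ⟶ pow d n := pmap d j.succAbove

theorem face_π (n : ℕ) (j : Fin (n + 2)) (i : Fin (n + 1)) :
    face d n j ≫ π d n i = π d (n + 1) (j.succAbove i) :=
  pmap_π d _ i

theorem face_pstr (n : ℕ) (j : Fin (n + 2)) : face d n j ≫ pstr d n = pstr d (n + 1) := by
  rw [← π_w d n 0, ← Category.assoc, face_π, π_w]

theorem face_zero (n : ℕ) : face d n 0 = pullback.snd d (pstr d n) :=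
  pow_hom_ext d fun i => by rw [face_π, Fin.succAbove_zero]; rfl

/-- Prepending a factor. -/
def cons {T : C} {n : ℕ} (l : T ⟶ V) (t : T ⟶ pow d n) (h : l ≫ d = t ≫ pstr d n) : T ⟶ pow d (n + 1) :=
  pullback.lift l t h

theorem cons_π_zero {T : C} {n : ℕ} (l : T ⟶ V) (t : T ⟶ pow d n) (h : l ≫ d = t ≫ pstr d n) :
    cons d l t h ≫ π d (n + 1) 0 = l :=
  pullback.lift_fst _ _ _

theorem cons_π_succ {T : C} {n : ℕ} (l : T ⟶ V) (t : T ⟶ pow d n) (h : l ≫ d = t ≫ pstr d n) (i : Fin (n + 1)) :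
    cons d l t h ≫ π d (n + 1) i.succ = t ≫ π d n i :=
  pullback.lift_snd_assoc _ _ _ _

theorem cons_face_zero {T : C} {n : ℕ} (l : T ⟶ V) (t : T ⟶ pow d n) (h : l ≫ d = t ≫ pstr d n) :
    cons d l t h ≫ face d n 0 = t := by
  rw [face_zero]
  exact pullback.lift_snd _ _ _

theorem cons_face_succ {T : C} {n : ℕ} (l : T ⟶ V) (t : T ⟶ pow d (n + 1)) (h : l ≫ d = t ≫ pstr d (n + 1))
    (j : Fin (n + 2)) :
    cons d l t h ≫ face d (n + 1) j.succ =
      cons d l (t ≫ face d n j) (by rw [Category.assoc, face_pstr, h]) := by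
  refine pow_hom_ext d fun i => ?_
  rw [Category.assoc, face_π]
  refine Fin.cases ?_ (fun k => ?_) i
  · rw [Fin.succ_succAbove_zero, cons_π_zero, cons_π_zero]
  · rw [Fin.succ_succAbove_succ, cons_π_succ, cons_π_succ, Category.assoc, face_π]

section Complex

variable (F : Cᵒᵖ ⥤ AddCommGrpCat.{u})

/-- The Cech differential. -/
def dC (n : ℕ) : F.obj (op (pow d n)) →+ F.obj (op (pow d (n + 1))) :=
  ∑ j : Fin (n + 2), (-1 : ℤ) ^ (j : ℕ) • (F.map (face d n j).op).hom

theorem dC_apply (n : ℕ) (x : F.obj (op (pow d n))) :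
    dC d F n x = ∑ j : Fin (n + 2), (-1 : ℤ) ^ (j : ℕ) • F.map (face d n j).op x := by
  simp only [dC, AddMonoidHom.finsetSum_apply]
  rfl

theorem dC_dC (n : ℕ) (x : F.obj (op (pow d n))) : dC d F (n + 1) (dC d F n x) = 0 := by
  let X : CosimplicialObject AddCommGrpCat.{u} := (nerve d).rightOp ⋙ F
  have key : ∀ (m : ℕ) (z : F.obj (op (pow d m))),
      (AlgebraicTopology.AlternatingCofaceMapComplex.objD X m) z = dC d F m z := fun m z => by
    rw [dC_apply, AlgebraicTopology.AlternatingCofaceMapComplex.objD]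
    change (AddCommGrpCat.homAddEquiv (∑ i : Fin (m + 2), (-1 : ℤ) ^ (i : ℕ) • X.δ i)) z = _
    simp only [map_sum, map_zsmul, AddMonoidHom.finsetSum_apply]
    rfl
  have h := ConcreteCategory.congr_hom (AlgebraicTopology.AlternatingCofaceMapComplex.d_squared X n) x
  rw [ConcreteCategory.comp_apply] at h
  exact ((congrArg (dC d F (n + 1)) (key n x)).symm.trans (key (n + 1) _).symm).trans h

theorem dC_naturality {F G : Cᵒᵖ ⥤ AddCommGrpCat.{u}} (φ : F ⟶ G) (n : ℕ) (x : F.obj (op (pow d n))) :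
    φ.app _ (dC d F n x) = dC d G n (φ.app _ x) := by
  rw [dC_apply, dC_apply, map_sum]
  refine Finset.sum_congr rfl fun j _ => ?_
  rw [map_zsmul]
  exact congrArg _ (NatTrans.naturality_apply φ (face d n j).op x)

/-- The Cech complex is exact in positive degrees. -/
def CechExact : Prop :=
  ∀ (p : ℕ) (z : F.obj (op (pow d (p + 1)))), dC d F (p + 1) z = 0 → ∃ y, dC d F p y = z

/-- The differential with the first factor fixed. -/
def eC (n : ℕ) : F.obj (op (pow d (n + 1))) →+ F.obj (op (pow d (n + 2))) :=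
  ∑ j : Fin (n + 2), (-1 : ℤ) ^ (j : ℕ) • (F.map (face d (n + 1) j.succ).op).hom

theorem eC_apply (n : ℕ) (x : F.obj (op (pow d (n + 1)))) :
    eC d F n x = ∑ j : Fin (n + 2), (-1 : ℤ) ^ (j : ℕ) • F.map (face d (n + 1) j.succ).op x := by
  simp only [eC, AddMonoidHom.finsetSum_apply]
  rfl

/-- Doubling the first factor. -/
def dbl (n : ℕ) : pow d (n + 1) ⟶ pow d (n + 2) :=
  cons d (π d (n + 1) 0) (𝟙 _) (by rw [Category.id_comp, π_w])

theorem dbl_face_one (n : ℕ) : dbl d n ≫ face d (n + 1) (Fin.succ 0) = 𝟙 _ := by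
  rw [dbl, cons_face_succ]
  refine pow_hom_ext d fun i => ?_
  refine Fin.cases ?_ (fun k => ?_) i
  · rw [cons_π_zero, Category.id_comp]
  · rw [cons_π_succ, Category.id_comp, Category.id_comp, face_π, Fin.succAbove_zero]

theorem dbl_face_succ (n : ℕ) (j : Fin (n + 2)) :
    dbl d (n + 1) ≫ face d (n + 2) j.succ.succ = face d (n + 1) j.succ ≫ dbl d n := by
  rw [dbl, cons_face_succ]
  refine pow_hom_ext d fun i => ?_
  refine Fin.cases ?_ (fun k => ?_) i
  · rw [cons_π_zero, Category.assoc, dbl, cons_π_zero, face_π, Fin.succ_succAbove_zero]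
  · rw [cons_π_succ, Category.id_comp, Category.assoc, dbl, cons_π_succ, Category.id_comp]

theorem exact_eC (n : ℕ) (x : F.obj (op (pow d (n + 2)))) (hx : eC d F (n + 1) x = 0) :
    ∃ y, eC d F n y = x := by
  refine ⟨F.map (dbl d n).op x, ?_⟩
  have h : F.map (dbl d (n + 1)).op (eC d F (n + 1) x) = 0 := by rw [hx, map_zero]
  rw [eC_apply, map_sum, Fin.sum_univ_succ] at h
  have h0 : F.map (dbl d (n + 1)).op (F.map (face d (n + 2) (Fin.succ 0)).op x) = x := by
    rw [← Functor.map_comp_apply, ← op_comp, dbl_face_one, op_id]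
    exact ConcreteCategory.congr_hom (F.map_id _) x
  have hs : ∀ j : Fin (n + 2), F.map (dbl d (n + 1)).op ((-1 : ℤ) ^ ((j.succ : Fin (n + 3)) : ℕ) •
      F.map (face d (n + 2) j.succ.succ).op x) =
      -((-1 : ℤ) ^ (j : ℕ) • F.map (face d (n + 1) j.succ).op (F.map (dbl d n).op x)) := fun j => by
    rw [map_zsmul, ← Functor.map_comp_apply, ← op_comp, dbl_face_succ, Fin.val_succ, pow_succ, mul_neg_one,
      neg_smul, op_comp, Functor.map_comp_apply]
  rw [Finset.sum_congr rfl fun j _ => hs j, Finset.sum_neg_distrib, ← eC_apply, map_zsmul, Fin.val_zero,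
    pow_zero, one_smul, h0, add_neg_eq_zero] at h
  exact h.symm

end Complex

end Groth.L09.EtCoh
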