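import Groth.Agent.L09.EtCoh.Class
import Groth.Agent.L09.ModEt.Main

/-!
# Quasi-coherent modules have exact Cech complexes on affine objects
-/

universe u

open CategoryTheory CategoryTheory.Limits AlgebraicGeometry Opposite AlgSp TensorProduct

set_option autoImplicit false
set_option linter.style.haveILetI false
set_option backward.isDefEq.respectTransparency false
set_option backward.isDefEq.respectTransparency.types false

noncomputable section

namespace Groth.L09.EtCoh

open Groth.L09.ModEt (Γ₀ pb res res_smul res_comp pb_comp secVia θx θx_tmul bijective_θx)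

variable {S : Scheme.{u}} {X : Sp S} (M : ModEt X) {E V : EtOver X} (d : V ⟶ E)

/-- The underlying abelian presheaf. -/
abbrev P : (EtOver X)ᵒᵖ ⥤ AddCommGrpCat.{u + 1} := ((toAbEt X).obj M).obj

theorem res_face (p : ℕ) (j : Fin (p + 2)) (a : Γ₀ E) (m : sectModEt M (pow d p)) :
    res M (face d p j) (pb (pstr d p) a • m) = pb (pstr d (p + 1)) a • res M (face d p j) m := by
  rw [res_smul, ← pb_comp, face_pstr]

/-- The differential is linear over the functions of the base. -/
def D (p : ℕ) :
    letI := secVia M (pstr d p)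
    letI := secVia M (pstr d (p + 1))
    sectModEt M (pow d p) →ₗ[Γ₀ E] sectModEt M (pow d (p + 1)) :=
  letI := secVia M (pstr d p)
  letI := secVia M (pstr d (p + 1))
  { toFun := fun m => ∑ j : Fin (p + 2), (-1 : ℤ) ^ (j : ℕ) • res M (face d p j) m
    map_add' := fun m m' => by simp only [map_add, smul_add, Finset.sum_add_distrib]
    map_smul' := fun a m => by
      show ∑ j : Fin (p + 2), (-1 : ℤ) ^ (j : ℕ) • res M (face d p j) (pb (pstr d p) a • m) =
        pb (pstr d (p + 1)) a • ∑ j : Fin (p + 2), (-1 : ℤ) ^ (j : ℕ) • res M (face d p j) m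
      rw [Finset.smul_sum]
      exact Finset.sum_congr rfl fun j _ => by rw [res_face]; exact smul_comm _ _ _ }

theorem D_apply (p : ℕ) (m : sectModEt M (pow d p)) :
    letI := secVia M (pstr d p)
    letI := secVia M (pstr d (p + 1))
    D M d p m = dC d (P M) p m :=
  (dC_apply d (P M) p m).symm

/-- The comparison with the fibre product. -/
def toObj (p : ℕ) : pow d (p + 1) ⟶ EtOver.pullbackObj d (pstr d p) :=
  (EtOver.isPullback d (pstr d p)).lift (π d (p + 1) 0) (face d p 0) (by rw [π_w, face_pstr])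

theorem toObj_fst (p : ℕ) : toObj d p ≫ EtOver.pullbackFst d (pstr d p) = π d (p + 1) 0 :=
  IsPullback.lift_fst _ _ _ _

theorem toObj_snd (p : ℕ) : toObj d p ≫ EtOver.pullbackSnd d (pstr d p) = face d p 0 :=
  IsPullback.lift_snd _ _ _ _

theorem bijective_res_toObj (p : ℕ) : Function.Bijective (res M (toObj d p)) := by
  let k : EtOver.pullbackObj d (pstr d p) ⟶ pow d (p + 1) :=
    cons d (EtOver.pullbackFst d _) (EtOver.pullbackSnd d _) (EtOver.pullback_condition d _)
  have h₁ : toObj d p ≫ k = 𝟙 _ := pullback.hom_ext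
    (((Category.assoc _ _ _).trans (congrArg _ (cons_π_zero _ _ _ _))).trans
      ((toObj_fst d p).trans (Category.id_comp _).symm))
    (((Category.assoc _ _ _).trans (congrArg _ (pullback.lift_snd _ _ _))).trans
      ((toObj_snd d p).trans ((face_zero d p).trans (Category.id_comp _).symm)))
  have h₂ : k ≫ toObj d p = 𝟙 _ := (EtOver.isPullback d (pstr d p)).hom_ext
    (((Category.assoc _ _ _).trans (congrArg _ (toObj_fst d p))).trans
      ((cons_π_zero _ _ _ _).trans (Category.id_comp _).symm))
    (((Category.assoc _ _ _).trans (congrArg _ (toObj_snd d p))).trans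
      ((cons_face_zero _ _ _ _).trans (Category.id_comp _).symm))
  refine Function.bijective_iff_has_inverse.2 ⟨res M k, fun x => ?_, fun x => ?_⟩
  · rw [← res_comp, h₂, Groth.L09.ModEt.res_id]
  · rw [← res_comp, h₁, Groth.L09.ModEt.res_id]

/-- Tensoring the Cech terms with the functions of the cover. -/
def Φ (p : ℕ) :
    letI := (pb d).toAlgebra
    letI := secVia M (pstr d p)
    Γ₀ V ⊗[Γ₀ E] sectModEt M (pow d p) →+ sectModEt M (pow d (p + 1)) :=
  letI := (pb d).toAlgebra
  letI := secVia M (pstr d p)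
  (res M (toObj d p)).comp (θx M d (pstr d p))

theorem Φ_tmul (p : ℕ) (b : Γ₀ V) (m : sectModEt M (pow d p)) :
    letI := (pb d).toAlgebra
    letI := secVia M (pstr d p)
    Φ M d p (b ⊗ₜ m) = pb (π d (p + 1) 0) b • res M (face d p 0) m := by
  letI := (pb d).toAlgebra
  letI := secVia M (pstr d p)
  show res M (toObj d p) (θx M d (pstr d p) (b ⊗ₜ m)) = _
  rw [θx_tmul, res_smul, ← res_comp, ← pb_comp, toObj_fst, toObj_snd]

theorem face_succ_face_zero (p : ℕ) (j : Fin (p + 2)) :
    face d (p + 1) j.succ ≫ face d p 0 = face d (p + 1) 0 ≫ face d p j := by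
  refine pow_hom_ext d fun i => ?_
  rw [Category.assoc, Category.assoc, face_π, face_π, face_π, face_π, Fin.succAbove_zero,
    Fin.succ_succAbove_succ, Fin.succAbove_zero]

theorem eC_Φ (p : ℕ) :
    letI := (pb d).toAlgebra
    letI := secVia M (pstr d p)
    letI := secVia M (pstr d (p + 1))
    ∀ x, eC d (P M) p (Φ M d p x) = Φ M d (p + 1) (LinearMap.lTensor (Γ₀ V) (D M d p) x) := by
  letI := (pb d).toAlgebra
  letI := secVia M (pstr d p)
  letI := secVia M (pstr d (p + 1))
  intro x
  induction x using TensorProduct.induction_on with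
  | zero => simp
  | tmul b m =>
    rw [LinearMap.lTensor_tmul, Φ_tmul, Φ_tmul]
    show eC d (P M) p (pb (π d (p + 1) 0) b • res M (face d p 0) m) =
      pb (π d (p + 1 + 1) 0) b • res M (face d (p + 1) 0) (∑ j : Fin (p + 2), (-1 : ℤ) ^ (j : ℕ) • res M (face d p j) m)
    rw [map_sum, Finset.smul_sum]
    refine (eC_apply d (P M) p _).trans (Finset.sum_congr rfl fun j _ => ?_)
    rw [map_zsmul, smul_comm]
    refine congrArg (fun z => (-1 : ℤ) ^ (j : ℕ) • z) ?_
    show res M (face d (p + 1) j.succ) (pb (π d (p + 1) 0) b • res M (face d p 0) m) = _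
    rw [res_smul, ← pb_comp, ← res_comp, ← res_comp, face_π, Fin.succ_succAbove_zero, face_succ_face_zero]
  | add x y hx hy => simp only [map_add, hx, hy]

theorem cok_of_isQuasicoherent [M.IsQuasicoherent] : Cok ((toAbEt X).obj M) := fun E V _ _ d hd p z hz => by
  letI := (pb d).toAlgebra
  letI := secVia M (pstr d p)
  letI := secVia M (pstr d (p + 1))
  letI := secVia M (pstr d (p + 1 + 1))
  haveI : Module.FaithfullyFlat (Γ₀ E) (Γ₀ V) := Groth.L09.ModEt.Data.faithfullyFlat_pb d hd
  have hb : ∀ q, letI := secVia M (pstr d q); Function.Bijective (Φ M d q) := fun q => by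
    letI := secVia M (pstr d q)
    haveI := isAffine_pow d q
    haveI := Groth.L09.ModEt.isAffine_pullback d (pstr d q)
    exact (bijective_res_toObj M d q).comp
      (bijective_θx M d (pstr d q) (Groth.L09.ModEt.bc_of_isQuasicoherent M _))
  have hex : Function.Exact (LinearMap.lTensor (Γ₀ V) (D M d p)) (LinearMap.lTensor (Γ₀ V) (D M d (p + 1))) := by
    intro x
    constructor
    · intro hx
      have h0 : eC d (P M) (p + 1) (Φ M d (p + 1) x) = 0 := by rw [eC_Φ, hx, map_zero]
      obtain ⟨y, hy⟩ := exact_eC d (P M) p (Φ M d (p + 1) x) h0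
      obtain ⟨x', rfl⟩ := (hb p).2 y
      exact ⟨x', (hb (p + 1)).1 ((eC_Φ M d p x').symm.trans hy)⟩
    · rintro ⟨y, rfl⟩
      rw [← LinearMap.comp_apply, ← LinearMap.lTensor_comp]
      have : (D M d (p + 1)).comp (D M d p) = 0 := LinearMap.ext fun m => by
        rw [LinearMap.comp_apply, D_apply, D_apply, LinearMap.zero_apply]
        exact dC_dC d (P M) p m
      rw [this, LinearMap.lTensor_zero, LinearMap.zero_apply]
  obtain ⟨y, hy⟩ := ((Module.FaithfullyFlat.lTensor_exact_iff_exact (Γ₀ E) (Γ₀ V) _ _).1 hex z).1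
    ((D_apply M d (p + 1) z).trans hz)
  exact ⟨y, (D_apply M d p y).symm.trans hy⟩

end Groth.L09.EtCoh
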