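import Groth.Agent.L09.EtCoh.Free
import Groth.Agent.L09.ModEt.Basic
import Groth.Prelude.Def_AlgSpOX2
import Mathlib.Algebra.Homology.DerivedCategory.Ext.ExactSequences
import Mathlib.CategoryTheory.Abelian.GrothendieckCategory.EnoughInjectives
import Mathlib.CategoryTheory.Sites.EpiMono
import Mathlib.CategoryTheory.Preadditive.Injective.Basic

/-!
# Abelian sheaves on small etale sites with exact Cech complexes on affine objects
-/

universe u

open CategoryTheory CategoryTheory.Limits AlgebraicGeometry Opposite AlgSp CategoryTheory.Abelian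

set_option autoImplicit false
set_option linter.style.haveILetI false
set_option backward.isDefEq.respectTransparency false
set_option backward.isDefEq.respectTransparency.types false

noncomputable section

namespace Groth.L09.EtCoh

open Groth.L09.ModEt (IsCover sigmaObj sigmaDesc sigmaι surjective_sigmaDesc exists_finite_cover)

variable {S : Scheme.{u}} {X : Sp S} (F : AbEt X)

/-- Restriction of sections. -/
def ares {E E' : EtOver X} (g : E' ⟶ E) : F.obj.obj (op E) →+ F.obj.obj (op E') := (F.obj.map g.op).hom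

theorem ares_comp {E E' E'' : EtOver X} (h : E'' ⟶ E') (g : E' ⟶ E) (x : F.obj.obj (op E)) :
    ares F (h ≫ g) x = ares F h (ares F g x) :=
  Functor.map_comp_apply F.obj g.op h.op x

theorem isSheaf_types : Presieve.IsSheaf (etTop X) (F.obj ⋙ CategoryTheory.forget _) :=
  (isSheaf_iff_isSheaf_of_type _ _).1
    (Presheaf.isSheaf_comp_of_isSheaf (etTop X) F.obj (CategoryTheory.forget AddCommGrpCat.{u + 1}) F.property)

theorem aeq_of_cover {E : EtOver X} {ι : Type*} {V : ι → EtOver X} {c : ∀ i, V i ⟶ E} (hc : IsCover c)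
    {s t : F.obj.obj (op E)} (h : ∀ i, ares F (c i) s = ares F (c i) t) : s = t := by
  refine ((isSheaf_types F).isSeparated _ (ofArrows_mem_etTop V c hc)).ext fun W g hg => ?_
  obtain ⟨i, a, rfl⟩ := (Sieve.mem_ofArrows_iff _ _ _).1 hg
  exact (ares_comp F a (c i) s).trans ((congrArg _ (h i)).trans (ares_comp F a (c i) t).symm)

theorem aexists_glue {E : EtOver X} {ι : Type*} {V : ι → EtOver X} {c : ∀ i, V i ⟶ E} (hc : IsCover c)
    (t : ∀ i, F.obj.obj (op (V i)))
    (h : ∀ i j, ares F (EtOver.pullbackFst (c i) (c j)) (t i) = ares F (EtOver.pullbackSnd (c i) (c j)) (t j)) :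
    ∃ s, ∀ i, ares F (c i) s = t i := by
  have hcompat : Presieve.Arrows.Compatible (F.obj ⋙ CategoryTheory.forget _) c t := by
    intro i j Z gi gj e
    obtain ⟨l, h₁, h₂⟩ := (EtOver.isPullback (c i) (c j)).exists_lift gi gj e
    show ares F gi (t i) = ares F gj (t j)
    rw [← h₁, ← h₂, ares_comp, ares_comp, h]
  obtain ⟨s, hs, -⟩ := ((Presieve.isSheafFor_arrows_iff _ _).mp
    ((Presieve.isSheafFor_iff_generate _).mpr (isSheaf_types F _ (ofArrows_mem_etTop V c hc)))) t hcompat
  exact ⟨s, hs⟩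

theorem aexists_glue_sigma {E : EtOver X} {ι : Type u} (V : ι → EtOver X) (g : ∀ i, V i ⟶ E)
    (t : ∀ i, F.obj.obj (op (V i))) : ∃ s, ∀ i, ares F (sigmaι V g i) s = t i := by
  refine aexists_glue F (Groth.L09.ModEt.isCover_sigmaι V g) t fun i j => ?_
  by_cases e : i = j
  · subst e
    haveI : Mono (sigmaι V g i) := ⟨fun a b h => EtOver.hom_ext _ _ (Over.OverMorphism.ext
      ((cancel_mono (Sigma.ι (fun i => (V i).obj.left.left) i)).1 (congrArg (fun k => k.hom.left.left) h)))⟩
    rw [(cancel_mono (sigmaι V g i)).1 (EtOver.pullback_condition (sigmaι V g i) (sigmaι V g i))]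
  · haveI : IsEmpty (EtOver.pullbackObj (sigmaι V g i) (sigmaι V g j)).obj.left.left := ⟨fun x => by
      have h := congrArg (fun k => k.hom.left.left x) (EtOver.pullback_condition (sigmaι V g i) (sigmaι V g j))
      exact e (congrArg Sigma.fst ((sigmaMk (fun i => (V i).obj.left.left)).injective
        ((sigmaMk_mk (fun i => (V i).obj.left.left) i _).trans
          (h.trans (sigmaMk_mk (fun i => (V i).obj.left.left) j _).symm))))⟩
    exact aeq_of_cover F (ι := PEmpty.{1}) (V := PEmpty.elim) (c := fun i => i.elim) (fun x => isEmptyElim x)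
      fun i => i.elim

theorem isAffine_pow {E V : EtOver X} (d : V ⟶ E) [IsAffine E.obj.left.left] [IsAffine V.obj.left.left] :
    ∀ n, IsAffine (pow d n).obj.left.left
  | 0 => ‹_›
  | n + 1 => by
    haveI := isAffine_pow d n
    haveI := Groth.L09.ModEt.isAffine_pullback d (pstr d n)
    let e : pullback d (pstr d n) ≅ EtOver.pullbackObj d (pstr d n) := (EtOver.isPullback d (pstr d n)).isoPullback.symm
    haveI : IsAffine ((EtOver.toScheme X).obj (EtOver.pullbackObj d (pstr d n))) :=
      inferInstanceAs (IsAffine (EtOver.pullbackObj d (pstr d n)).obj.left.left)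
    exact IsAffine.of_isIso ((EtOver.toScheme X).mapIso e).hom

/-- Exactness of all Cech complexes of affine covers of affine objects. -/
def Cok : Prop :=
  ∀ ⦃E V : EtOver X⦄ [IsAffine E.obj.left.left] [IsAffine V.obj.left.left] (d : V ⟶ E),
    Function.Surjective d.hom.left.left → CechExact d F.obj

theorem cok_of_injective [Injective F] : Cok F := fun E V _ _ d hd => by
  haveI : Injective F.obj :=
    Injective.injective_of_adjoint (sheafificationAdjunction (etTop X) AddCommGrpCat.{u + 1}) F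
  refine cechExact_of_injective d F fun W e => ?_
  have hc : IsCover (fun _ : PUnit.{u + 1} => d) := fun x =>
    (hd x).elim fun v hv => ⟨PUnit.unit, v, hv⟩
  refine ⟨_, ofArrows_mem_etTop _ _ (hc.pullback e), fun W' a ha => ?_⟩
  obtain ⟨i, k, rfl⟩ := (Sieve.mem_ofArrows_iff _ _ _).1 ha
  exact ⟨k ≫ EtOver.pullbackSnd e d, by rw [Category.assoc, Category.assoc, EtOver.pullback_condition]⟩

variable {F}

theorem app_res {G H : AbEt X} (φ : G ⟶ H) {E E' : EtOver X} (g : E' ⟶ E) (x : G.obj.obj (op E)) :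
    φ.hom.app (op E') (ares G g x) = ares H g (φ.hom.app (op E) x) :=
  NatTrans.naturality_apply φ.hom g.op x

theorem app_injective_of_mono {G H : AbEt X} (φ : G ⟶ H) [Mono φ] (E : EtOver X) :
    Function.Injective (φ.hom.app (op E)) :=
  (AddCommGrpCat.mono_iff_injective _).1
    (((NatTrans.mono_iff_mono_app ((sheafToPresheaf _ _).map φ)).1 inferInstance) (op E))

theorem exists_of_app_eq_zero {C : ShortComplex (AbEt X)} (hC : C.ShortExact) (E : EtOver X)
    (x : C.X₂.obj.obj (op E)) (hx : C.g.hom.app (op E) x = 0) : ∃ z, C.f.hom.app (op E) z = x := by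
  haveI := hC.mono_f
  let Φ : AbEt X ⥤ AddCommGrpCat.{u + 1} := sheafToPresheaf _ _ ⋙ (evaluation _ _).obj (op E)
  haveI : PreservesFiniteLimits Φ := comp_preservesFiniteLimits _ _
  haveI : Φ.PreservesZeroMorphisms := ⟨fun _ _ => rfl⟩
  have h := hC.exact.map_of_mono_of_preservesKernel Φ hC.mono_f inferInstance
  exact ((C.map Φ).ab_exact_iff).1 h x hx

theorem surjective_app {C : ShortComplex (AbEt X)} (hC : C.ShortExact) (h₁ : Cok C.X₁) (E : EtOver X)
    [IsAffine E.obj.left.left] : Function.Surjective (C.g.hom.app (op E)) := by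
  intro t
  haveI := hC.epi_g
  have hloc : Sheaf.IsLocallySurjective C.g := (Sheaf.isLocallySurjective_iff_epi' _ C.g).2 inferInstance
  obtain ⟨ι, _, V, c, hV, hcR, hc⟩ := exists_finite_cover (hloc.imageSieve_mem (U := E) t)
  haveI := hV
  choose m hm using hcR
  let σ := sigmaObj V c
  let d : σ ⟶ E := sigmaDesc V c
  obtain ⟨s, hs⟩ := aexists_glue_sigma C.X₂ V c m
  have hgs : C.g.hom.app (op σ) s = ares C.X₃ d t := aeq_of_cover C.X₃ (Groth.L09.ModEt.isCover_sigmaι V c) fun k => by
    rw [← app_res, hs, hm, ← ares_comp, Groth.L09.ModEt.sigmaι_desc]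
    rfl
  have hpw : ∀ i, π d 1 i ≫ d = pstr d 1 := π_w d 1
  haveI := isAffine_pow d 1
  obtain ⟨z, hz⟩ := exists_of_app_eq_zero hC (pow d 1) (dC d C.X₂.obj 0 s) (by
    refine (dC_naturality d C.g.hom 0 s).trans ((congrArg (dC d C.X₃.obj 0) hgs).trans ?_)
    rw [dC_apply, Fin.sum_univ_two]
    show (1 : ℤ) • ares C.X₃ (face d 0 0) (ares C.X₃ d t) + (-1 : ℤ) • ares C.X₃ (face d 0 1) (ares C.X₃ d t) = 0
    refine (congrArg₂ (fun a b => (1 : ℤ) • a + (-1 : ℤ) • b) (ares_comp C.X₃ (face d 0 0) d t).symm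
      (ares_comp C.X₃ (face d 0 1) d t).symm).trans ?_
    rw [show face d 0 0 ≫ d = face d 0 1 ≫ d from
      (face_pstr d 0 0).trans (face_pstr d 0 1).symm, neg_smul, add_neg_cancel])
  haveI := hC.mono_f
  obtain ⟨y, hy⟩ := h₁ d (surjective_sigmaDesc V c hc) 0 z (app_injective_of_mono C.f _ (by
    rw [dC_naturality, hz, dC_dC, map_zero]))
  let s' := s - C.f.hom.app (op σ) y
  have h0 : dC d C.X₂.obj 0 s' = 0 := by
    refine (map_sub (dC d C.X₂.obj 0) s _).trans ?_
    exact (congrArg (fun z => dC d C.X₂.obj 0 s - z)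
      ((dC_naturality d C.f.hom 0 y).symm.trans ((congrArg (C.f.hom.app _) hy).trans hz))).trans (sub_self _)
  have hcd : IsCover (fun _ : PUnit.{u + 1} => d) := fun x =>
    (surjective_sigmaDesc V c hc x).elim fun w hw => ⟨PUnit.unit, w, hw⟩
  obtain ⟨r, hr⟩ := aexists_glue C.X₂ hcd (fun _ => s') fun _ _ => by
    let a : EtOver.pullbackObj d d ⟶ pow d 1 :=
      cons d (EtOver.pullbackFst d d) (EtOver.pullbackSnd d d) (EtOver.pullback_condition d d)
    have e0 : a ≫ face d 0 0 = EtOver.pullbackSnd d d := cons_face_zero _ _ _ _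
    have e1 : a ≫ face d 0 1 = EtOver.pullbackFst d d := by
      refine (Category.comp_id _).symm.trans ?_
      show (a ≫ face d 0 1) ≫ π d 0 0 = _
      rw [Category.assoc, face_π, show (1 : Fin 2).succAbove 0 = 0 from rfl]
      exact cons_π_zero _ _ _ _
    have h := congrArg (ares C.X₂ a) h0
    rw [dC_apply, Fin.sum_univ_two, map_zero] at h
    change ares C.X₂ a ((1 : ℤ) • ares C.X₂ (face d 0 0) s' + (-1 : ℤ) • ares C.X₂ (face d 0 1) s') = 0 at h
    rw [map_add, map_zsmul, map_zsmul, ← ares_comp, ← ares_comp, e0, e1, one_smul, neg_smul, one_smul,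
      add_neg_eq_zero] at h
    exact h.symm
  refine ⟨r, aeq_of_cover C.X₃ hcd fun k => ?_⟩
  rw [← app_res, hr k, map_sub, show C.g.hom.app (op σ) (C.f.hom.app (op σ) y) = 0 from
    ConcreteCategory.congr_hom (NatTrans.congr_app ((sheafToPresheaf _ _).congr_map C.zero) (op σ)) y, sub_zero]
  exact hgs

theorem cok_quotient {C : ShortComplex (AbEt X)} (hC : C.ShortExact) (h₁ : Cok C.X₁) (h₂ : Cok C.X₂) :
    Cok C.X₃ := fun E V _ _ d hd p z hz => by
  haveI := hC.mono_f
  haveI := isAffine_pow d (p + 1)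
  haveI := isAffine_pow d (p + 2)
  obtain ⟨y, rfl⟩ := surjective_app hC h₁ (pow d (p + 1)) z
  obtain ⟨a, ha⟩ := exists_of_app_eq_zero hC _ (dC d C.X₂.obj (p + 1) y) (by rw [dC_naturality, hz])
  obtain ⟨b, hb⟩ := h₁ d hd (p + 1) a (app_injective_of_mono C.f _ (by
    rw [dC_naturality, ha, dC_dC, map_zero]))
  obtain ⟨w, hw⟩ := h₂ d hd p (y - C.f.hom.app _ b) (by rw [map_sub, ← dC_naturality, hb, ha, sub_self])
  refine ⟨C.g.hom.app _ w, ?_⟩
  rw [← dC_naturality, hw, map_sub, show C.g.hom.app (op (pow d (p + 1))) (C.f.hom.app _ b) = 0 from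
    ConcreteCategory.congr_hom (NatTrans.congr_app ((sheafToPresheaf _ _).congr_map C.zero) _) b, sub_zero]

/-- The free sheaf on an object. -/
abbrev fsh (E : EtOver X) : AbEt X := (presheafToSheaf (etTop X) AddCommGrpCat.{u + 1}).obj (fp E)

/-- Maps out of the free sheaf are sections. -/
def fshEquiv (E : EtOver X) (G : AbEt X) : (fsh E ⟶ G) ≃ G.obj.obj (op E) :=
  ((sheafificationAdjunction (etTop X) AddCommGrpCat.{u + 1}).homEquiv (fp E) G).trans
    { toFun := fun k => k.app (op E) (gen (𝟙 E))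
      invFun := fromGen
      left_inv := fun k => fp_hom_ext ((fromGen_gen _ _).trans
        (ConcreteCategory.congr_hom (G.obj.map_id _) _))
      right_inv := fun s => (fromGen_gen _ _).trans (ConcreteCategory.congr_hom (G.obj.map_id _) _) }

theorem fshEquiv_comp {E : EtOver X} {G H : AbEt X} (k : fsh E ⟶ G) (φ : G ⟶ H) :
    fshEquiv E H (k ≫ φ) = φ.hom.app (op E) (fshEquiv E G k) :=
  congrArg (fun m => m.app (op E) (gen (𝟙 E)))
    ((sheafificationAdjunction (etTop X) AddCommGrpCat.{u + 1}).homEquiv_naturality_right k φ)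

/-- The injective hull sequence. -/
theorem hull (G : AbEt X) : ∃ C : ShortComplex (AbEt X), C.X₁ = G ∧ C.ShortExact ∧ Injective C.X₂ :=
  ⟨ShortComplex.mk (Injective.ι G) (cokernel.π (Injective.ι G)) (cokernel.condition _), rfl,
    { exact := ShortComplex.cokernelSequence_exact _, mono_f := inferInstance, epi_g := inferInstance },
    Injective.injective_under G⟩

theorem subsingleton_ext (n : ℕ) : ∀ (G : AbEt X), Cok G → ∀ (E : EtOver X), IsAffine E.obj.left.left →
    Subsingleton (Ext.{u + 1} (fsh E) G (n + 1)) := by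
  induction n with
  | zero =>
    intro G hG E hE
    haveI := hE
    obtain ⟨C, rfl, hC, hI⟩ := hull G
    refine subsingleton_of_forall_eq 0 fun x => ?_
    obtain ⟨y, rfl⟩ := Ext.covariant_sequence_exact₁ (fsh E) hC x
      (by haveI := hI; exact Ext.eq_zero_of_injective _) (zero_add 1)
    obtain ⟨s, hs⟩ := surjective_app hC hG E (fshEquiv E C.X₃ (Ext.addEquiv₀ y))
    have hy : y = (Ext.mk₀ ((fshEquiv E C.X₂).symm s)).comp (Ext.mk₀ C.g) (add_zero 0) := by
      rw [Ext.mk₀_comp_mk₀]
      apply Ext.addEquiv₀.injective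
      show _ = Ext.addEquiv₀ (Ext.addEquiv₀.symm _)
      rw [AddEquiv.apply_symm_apply]
      apply (fshEquiv E C.X₃).injective
      rw [fshEquiv_comp, Equiv.apply_symm_apply, hs]
    rw [hy, Ext.comp_assoc_of_second_deg_zero, hC.comp_extClass, Ext.comp_zero]
  | succ n ih =>
    intro G hG E hE
    obtain ⟨C, rfl, hC, hI⟩ := hull G
    refine subsingleton_of_forall_eq 0 fun x => ?_
    obtain ⟨y, rfl⟩ := Ext.covariant_sequence_exact₁ (fsh E) hC x
      (by haveI := hI; exact Ext.eq_zero_of_injective _) (n₀ := n + 1) rfl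
    haveI := hI
    have := ih C.X₃ (cok_quotient hC hG (cok_of_injective C.X₂)) E hE
    rw [Subsingleton.elim y 0, Ext.zero_comp]

end Groth.L09.EtCoh
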