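import Groth.Prelude.Def_AlgSpOX2
import Groth.Agent.L02.An.LanFlat
import Groth.Agent.L09.Pull.Main
import Mathlib.CategoryTheory.Limits.Preserves.Shapes.Zero
import Mathlib.Algebra.Category.Grp.AB
import Mathlib.CategoryTheory.Preadditive.Injective.Basic

/-!
# Inverse images of abelian sheaves on small etale sites are exact
-/

universe u

open CategoryTheory CategoryTheory.Limits AlgebraicGeometry Opposite AlgSp

set_option autoImplicit false
set_option linter.style.haveILetI false
set_option linter.unusedSectionVars false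
set_option backward.isDefEq.respectTransparency false
set_option backward.isDefEq.respectTransparency.types false

noncomputable section

namespace Groth.L09.EtCoh

section Lan

universe v₁ u₁ v₂ u₂ v

variable {C : Type u₁} [Category.{v₁} C] {D : Type u₂} [Category.{v₂} D]

/-- Left Kan extension along a functor with cofiltered or empty comma categories preserves finite limits. -/
theorem lan_preservesFiniteLimits' (F : C ⥤ D) [Small.{v} C] [LocallySmall.{v} C] [LocallySmall.{v} D]
    [∀ (G : Cᵒᵖ ⥤ AddCommGrpCat.{v}), F.op.HasLeftKanExtension G]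
    (h : ∀ X : D, IsCofilteredOrEmpty (StructuredArrow X F)) :
    PreservesFiniteLimits (F.op.lan : (Cᵒᵖ ⥤ AddCommGrpCat.{v}) ⥤ Dᵒᵖ ⥤ AddCommGrpCat.{v}) := by
  have : Small.{v} Cᵒᵖ := small_map Opposite.equivToOpposite.symm
  have hsm : ∀ K : Dᵒᵖ, Small.{v} (CostructuredArrow F.op K) := fun K => by
    let e : CostructuredArrow F.op K ≃ Σ X : Cᵒᵖ, (F.op.obj X ⟶ K) :=
      { toFun := fun f => ⟨f.left, f.hom⟩
        invFun := fun p => CostructuredArrow.mk p.2
        left_inv := fun f => rfl
        right_inv := fun p => rfl }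
    have : ∀ X : Cᵒᵖ, Small.{v} (F.op.obj X ⟶ K) := fun X => small_map (opEquiv _ _)
    exact small_map e
  have hls : ∀ K : Dᵒᵖ, LocallySmall.{v} (CostructuredArrow F.op K) := fun K => ⟨fun a b => small_of_injective
    (f := fun φ : a ⟶ b => φ.left.unop) fun φ ψ h => CostructuredArrow.hom_ext _ _ (Quiver.Hom.unop_inj h)⟩
  have hes : ∀ K : Dᵒᵖ, EssentiallySmall.{v} (CostructuredArrow F.op K) := fun K =>
    essentiallySmall_of_small_of_locallySmall _
  have hcol : ∀ K : Dᵒᵖ, HasColimitsOfShape (CostructuredArrow F.op K) AddCommGrpCat.{v} := fun K =>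
    hasColimitsOfShape_of_equivalence (equivSmallModel.{v} _).symm
  apply preservesFiniteLimits_of_preservesFiniteLimitsOfSize.{0}
  intro J _ _
  apply preservesLimitsOfShape_of_evaluation _ J
  intro K
  have : PreservesFiniteLimits (colim : (CostructuredArrow F.op K ⥤ AddCommGrpCat.{v}) ⥤ _) := by
    haveI := h K.unop
    haveI : IsFilteredOrEmpty (StructuredArrow K.unop F)ᵒᵖ := inferInstance
    by_cases hne : Nonempty (StructuredArrow K.unop F)
    · haveI : IsCofiltered (StructuredArrow K.unop F) := IsCofiltered.mk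
      have : IsFiltered (CostructuredArrow F.op K) :=
        IsFiltered.of_equivalence (structuredArrowOpEquivalence F (unop K))
      have : IsFiltered (SmallModel.{v} (CostructuredArrow F.op K)) :=
        IsFiltered.of_equivalence (equivSmallModel _)
      have : PreservesColimitsOfShape (CostructuredArrow F.op K) (CategoryTheory.forget AddCommGrpCat.{v}) :=
        preservesColimitsOfShape_of_equiv (equivSmallModel _).symm _
      infer_instance
    · haveI : IsEmpty (CostructuredArrow F.op K) :=
        ⟨fun a => hne ⟨((structuredArrowOpEquivalence F (unop K)).inverse.obj a).unop⟩⟩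
      have hz : IsZero (colim : (CostructuredArrow F.op K ⥤ AddCommGrpCat.{v}) ⥤ _) :=
        Functor.isZero _ fun G => by
          rw [IsZero.iff_id_eq_zero]
          exact colimit.hom_ext fun j => (IsEmpty.false j).elim
      haveI : PreservesLimitsOfSize.{0, 0} (colim : (CostructuredArrow F.op K ⥤ AddCommGrpCat.{v}) ⥤ _) :=
        Functor.preservesLimitsOfSize_of_isZero _ hz
      exact PreservesLimitsOfSize.preservesFiniteLimits _
  exact preservesLimitsOfShape_of_natIso (Groth.L02.An.lanEvalIsoColim _ _ _).symm

end Lan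

variable {S : Scheme.{u}} {X Y : Sp S} {f : X ⟶ Y} (hf : Representable f)

/-- Objects under a base change form a cofiltered or empty category. -/
theorem isCofilteredOrEmpty_structuredArrow (Z : EtOver X) :
    IsCofilteredOrEmpty (StructuredArrow Z (EtOver.bc hf)) where
  cone_objs a b := by
    let k := Groth.L09.Pull.kProd hf a.hom b.hom
    exact ⟨StructuredArrow.mk (Y := EtOver.prodObj a.right b.right) k,
      StructuredArrow.homMk (EtOver.prodFst _ _) (Groth.L09.Pull.kProd_fst hf a.hom b.hom),
      StructuredArrow.homMk (EtOver.prodSnd _ _) (Groth.L09.Pull.kProd_snd hf a.hom b.hom), trivial⟩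
  cone_maps {a b} g h := by
    obtain ⟨d, hd₁, hd₂⟩ := BinaryFan.IsLimit.lift' (EtOver.prodIsLimit b.right b.right) (𝟙 _) (𝟙 _)
    obtain ⟨m, hm₁, hm₂⟩ := BinaryFan.IsLimit.lift' (EtOver.prodIsLimit b.right b.right) g.right h.right
    change d ≫ EtOver.prodFst b.right b.right = 𝟙 _ at hd₁
    change d ≫ EtOver.prodSnd b.right b.right = 𝟙 _ at hd₂
    change m ≫ EtOver.prodFst b.right b.right = g.right at hm₁
    change m ≫ EtOver.prodSnd b.right b.right = h.right at hm₂
    have hk : a.hom ≫ (EtOver.bc hf).map m = b.hom ≫ (EtOver.bc hf).map d :=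
      Groth.L09.Pull.lift_prod_unique hf b.right b.right
        (by
          rw [Category.assoc, Category.assoc, ← EtOver.bc_map, ← Functor.map_comp, ← Functor.map_comp, hm₁, hd₁,
            CategoryTheory.Functor.map_id]
          exact (StructuredArrow.w g).trans (Category.comp_id _).symm)
        (by
          rw [Category.assoc, Category.assoc, ← EtOver.bc_map, ← Functor.map_comp, ← Functor.map_comp, hm₂, hd₂,
            CategoryTheory.Functor.map_id]
          exact (StructuredArrow.w h).trans (Category.comp_id _).symm)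
    let k := (EtOver.isPullback_bc_map_pullback hf m d).lift a.hom b.hom hk
    refine ⟨StructuredArrow.mk (Y := EtOver.pullbackObj m d) k,
      StructuredArrow.homMk (EtOver.pullbackFst m d) ((EtOver.isPullback_bc_map_pullback hf m d).lift_fst _ _ _), ?_⟩
    refine StructuredArrow.hom_ext _ _ ?_
    show EtOver.pullbackFst m d ≫ g.right = EtOver.pullbackFst m d ≫ h.right
    rw [← hm₁, ← hm₂, ← Category.assoc, ← Category.assoc, EtOver.pullback_condition, Category.assoc,
      Category.assoc, hd₁, hd₂]

attribute [local instance] reflectsLimits_of_reflectsIsomorphisms in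
theorem preservesFiniteLimits_pullEt : PreservesFiniteLimits (pullEt hf AddCommGrpCat.{u + 1}) := by
  haveI : LocallySmall.{u + 1} (EtOver X) := ⟨fun a b => small_lift.{u, u, u + 1} _⟩
  haveI : LocallySmall.{u + 1} (EtOver Y) := ⟨fun a b => small_lift.{u, u, u + 1} _⟩
  haveI : EssentiallySmall.{u + 1} (EtOver Y)ᵒᵖ := inferInstance
  haveI : ∀ K : (EtOver X)ᵒᵖ, HasColimitsOfShape (CostructuredArrow (EtOver.bc hf).op K) AddCommGrpCat.{u + 1} :=
    fun K => by
      haveI : EssentiallySmall.{u + 1} (CostructuredArrow (EtOver.bc hf).op K) := inferInstance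
      exact hasColimitsOfShape_of_equivalence (equivSmallModel.{u + 1} _).symm
  haveI : ∀ G : (EtOver Y)ᵒᵖ ⥤ AddCommGrpCat.{u + 1}, (EtOver.bc hf).op.HasLeftKanExtension G := fun G =>
    inferInstance
  haveI : PreservesFiniteLimits ((EtOver.bc hf).op.lan :
      ((EtOver Y)ᵒᵖ ⥤ AddCommGrpCat.{u + 1}) ⥤ (EtOver X)ᵒᵖ ⥤ AddCommGrpCat.{u + 1}) :=
    lan_preservesFiniteLimits'.{u, u + 1, u, u + 1, u + 1} (EtOver.bc hf) (isCofilteredOrEmpty_structuredArrow hf)
  exact Functor.sheafPullbackConstruction.preservesFiniteLimits (EtOver.bc hf) AddCommGrpCat.{u + 1}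
    (etTop Y) (etTop X)

/-- Direct images preserve injective abelian sheaves. -/
theorem injective_pushEt (I : AbEt X) [Injective I] : Injective ((pushEt hf AddCommGrpCat.{u + 1}).obj I) := by
  haveI := preservesFiniteLimits_pullEt hf
  exact Injective.injective_of_adjoint (pullPushAdjEt hf AddCommGrpCat.{u + 1}) I

end Groth.L09.EtCoh
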