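import Groth.Agent.L09.EtCoh.Class
import Groth.Agent.L00.RDerLES
import Groth.Agent.L09.ModEt.Push

/-!
# Higher direct images along affine morphisms of sheaves with exact Cech complexes
-/

universe u

open CategoryTheory CategoryTheory.Limits AlgebraicGeometry Opposite AlgSp

set_option autoImplicit false
set_option linter.style.haveILetI false
set_option backward.isDefEq.respectTransparency false
set_option backward.isDefEq.respectTransparency.types false

noncomputable section

namespace Groth.L09.EtCoh

variable {S : Scheme.{u}} {X Y : Sp S} {f : X ⟶ Y} (hf : Representable f)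

instance preservesFiniteLimits_pushEt : PreservesFiniteLimits (pushEt hf AddCommGrpCat.{u + 1}) :=
  haveI : PreservesLimitsOfSize.{0, 0} (pushEt hf AddCommGrpCat.{u + 1}) :=
    (pullPushAdjEt hf AddCommGrpCat.{u + 1}).rightAdjoint_preservesLimits
  PreservesLimitsOfSize.preservesFiniteLimits _

/-- Direct images along affine morphisms of surjections with acyclic kernel are surjections. -/
theorem epi_push (hfa : RepWith @IsAffineHom f) {C : ShortComplex (AbEt X)} (hC : C.ShortExact) (h₁ : Cok C.X₁) :
    Epi ((pushEt hf AddCommGrpCat.{u + 1}).map C.g) := by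
  refine (Sheaf.isLocallySurjective_iff_epi' (φ := (pushEt hf AddCommGrpCat.{u + 1}).map C.g)).1 ⟨fun {E} t => ?_⟩
  choose V hV g hg hx using fun x : ↥E.obj.left.left =>
    Groth.L09.ModEt.exists_refinement ((etTop Y).top_mem E) x
  refine (etTop Y).superset_covering (fun W a ha => ?_) (ofArrows_mem_etTop V g fun x => ⟨x, hx x⟩)
  obtain ⟨x, k, rfl⟩ := (Sieve.mem_ofArrows_iff _ _ _).1 ha
  refine Sieve.downward_closed _ ?_ k
  haveI := hV x
  haveI := Groth.L09.ModEt.isAffine_bcObj hf hfa (V x)
  exact surjective_app hC h₁ (EtOver.bcObj hf (V x))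
    (((pushEt hf AddCommGrpCat.{u + 1}).obj C.X₃).obj.map (g x).op t)

/-- Higher direct images along affine morphisms vanish on sheaves with exact Cech complexes. -/
theorem isZero_rpush (hfa : RepWith @IsAffineHom f) (n : ℕ) :
    ∀ G : AbEt X, Cok G → IsZero ((RpushEt hf (n + 1)).obj G) := by
  letI := HasDerivedCategory.standard (AbEt X)
  letI := HasDerivedCategory.standard (AbEt Y)
  induction n with
  | zero =>
    intro G hG
    obtain ⟨C, rfl, hC, hI⟩ := hull G
    haveI := hI
    haveI := epi_push hf hfa hC hG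
    haveI : Epi ((RpushEt hf 0).map C.g) := by
      let F := pushEt hf AddCommGrpCat.{u + 1}
      exact ((MorphismProperty.epimorphisms _).arrow_mk_iso_iff
        (Arrow.isoMk (F.rightDerivedZeroIsoSelf.app _) (F.rightDerivedZeroIsoSelf.app _)
          (F.rightDerivedZeroIsoSelf.hom.naturality C.g).symm)).2 ‹Epi (F.map C.g)›
    exact Groth.L00.RDerLES.isZero_X₁ _ hC 0
      ((pushEt hf AddCommGrpCat.{u + 1}).isZero_rightDerived_obj_injective_succ 0 C.X₂)
  | succ n ih =>
    intro G hG
    obtain ⟨C, rfl, hC, hI⟩ := hull G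
    haveI := hI
    haveI : Epi ((RpushEt hf (n + 1)).map C.g) :=
      ⟨fun a b _ => (ih C.X₃ (cok_quotient hC hG (cok_of_injective C.X₂))).eq_of_src a b⟩
    exact Groth.L00.RDerLES.isZero_X₁ _ hC (n + 1)
      ((pushEt hf AddCommGrpCat.{u + 1}).isZero_rightDerived_obj_injective_succ (n + 1) C.X₂)

end Groth.L09.EtCoh
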