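import Groth.Agent.L09.EtCoh.Global
import Groth.Agent.L09.EtCoh.Push
import Groth.Agent.L09.EtCoh.PullExact
import Groth.Agent.L09.Pull.Qcoh
import Groth.Agent.L10.ExtCompare

/-!
# Cohomology of direct images along affine morphisms
-/

universe u

open CategoryTheory CategoryTheory.Limits AlgebraicGeometry Opposite AlgSp CategoryTheory.Abelian

set_option autoImplicit false
set_option linter.style.haveILetI false
set_option backward.isDefEq.respectTransparency false
set_option backward.isDefEq.respectTransparency.types false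

noncomputable section

namespace Groth.L09.EtCoh

open Groth.L09.ModEt (IsCover)

variable {S : Scheme.{u}} {X Y : Sp S} {f : X ⟶ Y} (hf : Representable f)

/-- The constant sheaf of integers. -/
abbrev zSh (X : Sp S) : AbEt X :=
  (constantSheaf (etTop X) AddCommGrpCat.{u + 1}).obj (AddCommGrpCat.of (ULift.{u + 1} ℤ))

/-- Restriction of global families along base change. -/
def whisk (G : AbEt X) : (zP X ⟶ G.obj) →+ (zP Y ⟶ ((pushEt hf AddCommGrpCat.{u + 1}).obj G).obj) where
  toFun φ :=
    { app := fun E => φ.app (op (EtOver.bcObj hf E.unop))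
      naturality := fun E E' g => φ.naturality (EtOver.bcMap hf g.unop).op }
  map_zero' := rfl
  map_add' _ _ := rfl

theorem exists_cover_bc (hY : IsAlgSpace Y) (Z : EtOver X) :
    ∃ (ι : Type u) (V : ι → EtOver X) (c : ∀ i, V i ⟶ Z) (E : ι → EtOver Y),
      IsCover c ∧ ∀ i, Nonempty (V i ⟶ EtOver.bcObj hf (E i)) := by
  have hex : ∀ z : Z.obj.left.left, ∃ (V : EtOver X) (E : EtOver Y) (g : V ⟶ Z),
      Nonempty (V ⟶ EtOver.bcObj hf E) ∧ z ∈ Set.range g.hom.left.left := by
    intro z
    obtain ⟨E, hE, e, he⟩ := Groth.L09.ModEt.exists_affine_chart hY (Points.map f (Points.ofPt Z.obj.hom z))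
    obtain ⟨w, hw, -⟩ := Groth.L23.exists_point_of_isPullback (EtOver.isPullback_bcObj hf E)
      (x := Points.ofPt Z.obj.hom z) (u := e) he.symm
    obtain ⟨W, hW, g₁, g₂, v, hv, -⟩ := Groth.L09.ModEt.exists_common z w hw.symm
    exact ⟨W, E, g₁, ⟨g₂⟩, v, hv⟩
  choose V E g hn hg using hex
  exact ⟨_, V, g, E, fun z => ⟨z, hg z⟩, hn⟩

theorem aeq_of_bc (hY : IsAlgSpace Y) (G : AbEt X) {Z : EtOver X} {s t : G.obj.obj (op Z)}
    (h : ∀ (E : EtOver Y) (W : EtOver X) (a : W ⟶ Z) (_ : W ⟶ EtOver.bcObj hf E), ares G a s = ares G a t) :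
    s = t := by
  obtain ⟨ι, V, c, E, hc, hu⟩ := exists_cover_bc hf hY Z
  exact aeq_of_cover G hc fun i => h (E i) (V i) (c i) (hu i).some

theorem whisk_bijective (hY : IsAlgSpace Y) (G : AbEt X) : Function.Bijective (whisk hf G) := by
  constructor
  · intro φ ψ h
    refine NatTrans.ext (funext fun Z => AddCommGrpCat.hom_ext (AddMonoidHom.ext fun n => ?_))
    refine aeq_of_bc hf hY G (Z := Z.unop) fun E W a u => ?_
    have e : ∀ k : zP X ⟶ G.obj, ares G a (k.app Z n) = ares G u (k.app (op (EtOver.bcObj hf E)) n) :=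
      fun k => (NatTrans.naturality_apply k a.op n).symm.trans (NatTrans.naturality_apply k u.op n)
    rw [e, e]
    exact congrArg (ares G u) (ConcreteCategory.congr_hom (NatTrans.congr_app h (op E)) n)
  · intro ψ
    let one : ULift.{u + 1} ℤ := ULift.up 1
    let σ : ∀ E : EtOver Y, G.obj.obj (op (EtOver.bcObj hf E)) := fun E => ψ.app (op E) one
    have hσ : ∀ {E E' : EtOver Y} (g : E' ⟶ E), ares G (EtOver.bcMap hf g) (σ E) = σ E' := fun g =>
      (NatTrans.naturality_apply ψ g.op one).symm
    have hindep : ∀ {W : EtOver X} {E E' : EtOver Y} (z : W ⟶ EtOver.bcObj hf E') (u : W ⟶ EtOver.bcObj hf E),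
        ares G z (σ E') = ares G u (σ E) := fun {W E E'} z u => by
      let k := Groth.L09.Pull.kProd hf z u
      rw [← Groth.L09.Pull.kProd_fst hf z u, ares_comp, hσ]
      conv_rhs => rw [← Groth.L09.Pull.kProd_snd hf z u, ares_comp, hσ]
    have hex : ∀ Z : EtOver X, ∃ s : G.obj.obj (op Z),
        ∀ (E : EtOver Y) (W : EtOver X) (a : W ⟶ Z) (u : W ⟶ EtOver.bcObj hf E), ares G a s = ares G u (σ E) := by
      intro Z
      obtain ⟨ι, V, c, E, hc, hu⟩ := exists_cover_bc hf hY Z
      obtain ⟨s, hs⟩ := aexists_glue G hc (fun i => ares G (hu i).some (σ (E i))) fun i j => by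
        rw [← ares_comp, ← ares_comp]
        exact hindep _ _
      refine ⟨s, fun E' W a u => aeq_of_cover G (hc.pullback a) fun i => ?_⟩
      rw [← ares_comp, ← ares_comp, EtOver.pullback_condition, ares_comp, hs, ← ares_comp]
      exact hindep _ _
    choose s hs using hex
    refine ⟨{ app := fun Z => AddCommGrpCat.ofHom
                ((zmultiplesHom (G.obj.obj Z) (s Z.unop)).comp AddEquiv.ulift.toAddMonoidHom)
              naturality := fun Z Z' g => ?_ }, ?_⟩
    · refine AddCommGrpCat.hom_ext (AddMonoidHom.ext fun n => ?_)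
      show n.down • s Z'.unop = ares G g.unop (n.down • s Z.unop)
      rw [map_zsmul]
      refine congrArg (fun x => n.down • x) (aeq_of_bc hf hY G fun E W a u => ?_)
      rw [hs _ E W a u, ← ares_comp, hs _ E W (a ≫ g.unop) u]
    · refine NatTrans.ext (funext fun E => AddCommGrpCat.hom_ext (AddMonoidHom.ext fun n => ?_))
      show n.down • s (EtOver.bcObj hf E.unop) = ψ.app E n
      have h1 : s (EtOver.bcObj hf E.unop) = σ E.unop := aeq_of_bc hf hY G fun E' W a u =>
        (hs _ E' W a u).trans (hindep u a)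
      rw [h1]
      refine ((map_zsmul (ψ.app E).hom n.down one).symm).trans (congrArg (ψ.app E).hom ?_)
      show n.down • one = n
      ext
      simp [one]

/-- Global sections of a direct image. -/
def gEquiv (hY : IsAlgSpace Y) (G : AbEt X) :
    (zSh X ⟶ G) ≃+ (zSh Y ⟶ (pushEt hf AddCommGrpCat.{u + 1}).obj G) :=
  ((sheafificationAdjunction (etTop X) AddCommGrpCat.{u + 1}).homAddEquiv (zP X) G).trans
    ((AddEquiv.ofBijective (whisk hf G) (whisk_bijective hf hY G)).trans
      ((sheafificationAdjunction (etTop Y) AddCommGrpCat.{u + 1}).homAddEquiv (zP Y)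
        ((pushEt hf AddCommGrpCat.{u + 1}).obj G)).symm)

theorem gEquiv_comp (hY : IsAlgSpace Y) {G G' : AbEt X} (φ : G ⟶ G') (k : zSh X ⟶ G) :
    gEquiv hf hY G' (k ≫ φ) = gEquiv hf hY G k ≫ (pushEt hf AddCommGrpCat.{u + 1}).map φ := by
  let aX := sheafificationAdjunction (etTop X) AddCommGrpCat.{u + 1}
  let aY := sheafificationAdjunction (etTop Y) AddCommGrpCat.{u + 1}
  let PG := (pushEt hf AddCommGrpCat.{u + 1}).obj G
  let PG' := (pushEt hf AddCommGrpCat.{u + 1}).obj G'
  show (aY.homEquiv (zP Y) PG').symm (whisk hf G' (aX.homEquiv (zP X) G' (k ≫ φ))) =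
    (aY.homEquiv (zP Y) PG).symm (whisk hf G (aX.homEquiv (zP X) G k)) ≫ (pushEt hf AddCommGrpCat.{u + 1}).map φ
  rw [← Adjunction.homEquiv_naturality_right_symm]
  exact congrArg (fun m => (aY.homEquiv (zP Y) PG').symm (whisk hf G' m)) (aX.homEquiv_naturality_right k φ)

/-- Cohomology is unchanged by direct image along an affine morphism. -/
theorem nonempty_hEt_push (hY : IsAlgSpace Y) (hfa : RepWith @IsAffineHom f) (G : AbEt X) (hG : Cok G) (n : ℕ) :
    Nonempty (HEt X G n ≃+ HEt Y ((pushEt hf AddCommGrpCat.{u + 1}).obj G) n) := by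
  refine Groth.L10.nonempty_ext_compare (zSh X) (zSh Y) (pushEt hf AddCommGrpCat.{u + 1}) Cok
    (gEquiv hf hY) (fun φ k => gEquiv_comp hf hY φ k) (fun F hF => ?_) (fun F hF => ?_) (fun I m hI => ?_) G hG n
  · exact cok_quotient (C := ShortComplex.mk (Injective.ι F) (cokernel.π _) (cokernel.condition _))
      { exact := ShortComplex.cokernelSequence_exact _ } hF (cok_of_injective _)
  · have hC : (ShortComplex.mk (Injective.ι F) (cokernel.π (Injective.ι F)) (cokernel.condition _)).ShortExact :=
      { exact := ShortComplex.cokernelSequence_exact _ }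
    haveI := hC.mono_f
    exact { exact := hC.exact.map_of_mono_of_preservesKernel _ hC.mono_f inferInstance
            mono_f := inferInstanceAs (Mono ((pushEt hf AddCommGrpCat.{u + 1}).map (Injective.ι F)))
            epi_g := epi_push hf hfa hC hF }
  · haveI := hI
    haveI := injective_pushEt hf I
    exact Ext.subsingleton_of_injective _ _ m

end Groth.L09.EtCoh
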