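import Groth.Agent.L09.EtCoh.Pow
import Mathlib.CategoryTheory.Sites.Sheafification
import Mathlib.CategoryTheory.Sites.Abelian
import Mathlib.CategoryTheory.Preadditive.Injective.Basic
import Mathlib.CategoryTheory.Abelian.Basic
import Mathlib.CategoryTheory.Abelian.FunctorCategory
import Mathlib.Algebra.Category.Grp.Abelian

/-!
# Injective sheaves have exact Cech complexes
-/

universe u

open CategoryTheory CategoryTheory.Limits Opposite

set_option autoImplicit false
set_option backward.isDefEq.respectTransparency false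
set_option backward.isDefEq.respectTransparency.types false

noncomputable section

namespace Groth.L09.EtCoh

variable {C : Type (u + 1)} [Category.{u} C]

/-- The free presheaf of abelian groups on an object. -/
def fp (U : C) : Cᵒᵖ ⥤ AddCommGrpCat.{u + 1} := uliftYoneda.{u + 1}.obj U ⋙ AddCommGrpCat.free.{u + 1}

/-- The functorial map of free presheaves. -/
def fpMap {U V : C} (f : V ⟶ U) : fp V ⟶ fp U :=
  Functor.whiskerRight (uliftYoneda.{u + 1}.map f) AddCommGrpCat.free.{u + 1}

/-- A generator of the free presheaf. -/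
def gen {U W : C} (f : W ⟶ U) : (fp U).obj (op W) := FreeAbelianGroup.of (ULift.up.{u + 1} f)

theorem fpMap_gen {U V W : C} (g : V ⟶ U) (f : W ⟶ V) : (fpMap g).app (op W) (gen f) = gen (f ≫ g) :=
  FreeAbelianGroup.map_of_apply _

theorem fp_map_gen {U W W' : C} (h : W' ⟶ W) (f : W ⟶ U) : (fp U).map h.op (gen f) = gen (h ≫ f) :=
  FreeAbelianGroup.map_of_apply _

theorem fp_hom_ext {U : C} {P : Cᵒᵖ ⥤ AddCommGrpCat.{u + 1}} {g g' : fp U ⟶ P}
    (h : g.app (op U) (gen (𝟙 U)) = g'.app (op U) (gen (𝟙 U))) : g = g' := by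
  refine NatTrans.ext (funext fun W => AddCommGrpCat.hom_ext (FreeAbelianGroup.lift_ext _ _ fun f => ?_))
  have e : ∀ k : fp U ⟶ P, k.app W (gen f.down) = P.map f.down.op (k.app (op U) (gen (𝟙 U))) := fun k => by
    rw [← NatTrans.naturality_apply, fp_map_gen, Category.comp_id]
  exact (e g).trans ((congrArg (P.map f.down.op) h).trans (e g').symm)

/-- The map out of a free presheaf with given value. -/
def fromGen {U : C} {P : Cᵒᵖ ⥤ AddCommGrpCat.{u + 1}} (s : P.obj (op U)) : fp U ⟶ P where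
  app W := AddCommGrpCat.ofHom (FreeAbelianGroup.lift fun f => P.map f.down.op s)
  naturality W W' a := by
    refine AddCommGrpCat.hom_ext (FreeAbelianGroup.lift_ext _ _ fun f => ?_)
    show FreeAbelianGroup.lift _ ((fp U).map a (gen f.down)) = P.map a (FreeAbelianGroup.lift _ (FreeAbelianGroup.of f))
    rw [show a = a.unop.op from rfl, fp_map_gen, gen, FreeAbelianGroup.lift_apply_of, FreeAbelianGroup.lift_apply_of]
    exact Functor.map_comp_apply P f.down.op a.unop.op s

theorem fromGen_gen {U W : C} {P : Cᵒᵖ ⥤ AddCommGrpCat.{u + 1}} (s : P.obj (op U)) (f : W ⟶ U) :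
    (fromGen s).app (op W) (gen f) = P.map f.op s :=
  FreeAbelianGroup.lift_apply_of _ _

variable [HasPullbacks C] {E V : C} (d : V ⟶ E)

/-- The differential of free presheaves. -/
def fd (n : ℕ) : fp (pow d (n + 1)) ⟶ fp (pow d n) :=
  fromGen (∑ j : Fin (n + 2), (-1 : ℤ) ^ (j : ℕ) • gen (face d n j))

theorem fd_gen (n : ℕ) {W : C} (t : W ⟶ pow d (n + 1)) :
    (fd d n).app (op W) (gen t) = ∑ j : Fin (n + 2), (-1 : ℤ) ^ (j : ℕ) • gen (t ≫ face d n j) := by
  rw [fd, fromGen_gen, map_sum]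
  refine Finset.sum_congr rfl fun j _ => ?_
  rw [map_zsmul, fp_map_gen]

/-- The structure map can be lifted. -/
def Liftable {W : C} {n : ℕ} (t : W ⟶ pow d n) : Prop := ∃ l : W ⟶ V, l ≫ d = t ≫ pstr d n

open Classical in
/-- The homotopy on liftable generators. -/
def sgen {W : C} (L : (W ⟶ E) → (W ⟶ V)) {n : ℕ} (t : W ⟶ pow d n) : (fp (pow d (n + 1))).obj (op W) :=
  if h : L (t ≫ pstr d n) ≫ d = t ≫ pstr d n then gen (cons d (L (t ≫ pstr d n)) t h) else 0

/-- The homotopy. -/
def sop {W : C} (L : (W ⟶ E) → (W ⟶ V)) (n : ℕ) :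
    (fp (pow d n)).obj (op W) →+ (fp (pow d (n + 1))).obj (op W) :=
  FreeAbelianGroup.lift fun f => sgen d L f.down

theorem sop_gen {W : C} (L : (W ⟶ E) → (W ⟶ V)) {n : ℕ} (t : W ⟶ pow d n) :
    sop d L n (gen t) = sgen d L t :=
  FreeAbelianGroup.lift_apply_of _ _

theorem homotopy_gen {W : C} (L : (W ⟶ E) → (W ⟶ V)) {n : ℕ} (t : W ⟶ pow d (n + 1))
    (ht : L (t ≫ pstr d (n + 1)) ≫ d = t ≫ pstr d (n + 1)) :
    (fd d (n + 1)).app (op W) (sop d L (n + 1) (gen t)) + sop d L n ((fd d n).app (op W) (gen t)) = gen t := by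
  rw [sop_gen, sgen, dif_pos ht, fd_gen, fd_gen, map_sum, Fin.sum_univ_succ, cons_face_zero, Fin.val_zero,
    pow_zero, one_smul, add_assoc, ← Finset.sum_add_distrib]
  refine (congrArg _ (Finset.sum_eq_zero fun j _ => ?_)).trans (add_zero _)
  have e : (t ≫ face d n j) ≫ pstr d n = t ≫ pstr d (n + 1) := by rw [Category.assoc, face_pstr]
  have ht' : L ((t ≫ face d n j) ≫ pstr d n) ≫ d = (t ≫ face d n j) ≫ pstr d n := by rw [e]; exact ht
  rw [map_zsmul, sop_gen, sgen, dif_pos ht', cons_face_succ, Fin.val_succ, pow_succ, mul_neg_one, neg_smul]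
  simp only [e]
  exact neg_add_cancel _

variable {J : GrothendieckTopology C}

theorem exists_liftable_cover (hd : ∀ (W : C) (e : W ⟶ E), ∃ R ∈ J W, ∀ ⦃W' : C⦄ (a : W' ⟶ W), R a →
      ∃ l : W' ⟶ V, l ≫ d = a ≫ e) {W : C} {n : ℕ} (c : (fp (pow d n)).obj (op W)) :
    ∃ R ∈ J W, ∀ ⦃W' : C⦄ (a : W' ⟶ W), R a → (fp (pow d n)).map a.op c ∈
      AddSubgroup.closure {x | ∃ t : W' ⟶ pow d n, Liftable d t ∧ gen t = x} := by
  induction c using FreeAbelianGroup.induction_on with
  | zero => exact ⟨⊤, J.top_mem W, fun W' a _ => by simp only [map_zero]; exact zero_mem _⟩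
  | of f =>
    obtain ⟨R, hR, hl⟩ := hd W (f.down ≫ pstr d n)
    refine ⟨R, hR, fun W' a ha => AddSubgroup.subset_closure ⟨a ≫ f.down, ?_, (fp_map_gen a f.down).symm⟩⟩
    obtain ⟨l, hl⟩ := hl a ha
    exact ⟨l, hl.trans (Category.assoc _ _ _).symm⟩
  | neg f h =>
    obtain ⟨R, hR, h⟩ := h
    exact ⟨R, hR, fun W' a ha => by rw [map_neg]; exact neg_mem (h a ha)⟩
  | add x y hx hy =>
    obtain ⟨R, hR, hx⟩ := hx
    obtain ⟨R', hR', hy⟩ := hy
    exact ⟨R ⊓ R', J.intersection_covering hR hR', fun W' a ha => by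
      rw [map_add]; exact add_mem (hx a ha.1) (hy a ha.2)⟩

theorem exists_preimage_of_cycle {W : C} {n : ℕ} {c : (fp (pow d (n + 1))).obj (op W)}
    (hc : c ∈ AddSubgroup.closure {x | ∃ t : W ⟶ pow d (n + 1), Liftable d t ∧ gen t = x})
    (h0 : (fd d n).app (op W) c = 0) : ∃ c', (fd d (n + 1)).app (op W) c' = c := by
  classical
  cases isEmpty_or_nonempty (W ⟶ V) with
  | inl hV =>
    refine ⟨0, ?_⟩
    have : {x | ∃ t : W ⟶ pow d (n + 1), Liftable d t ∧ gen t = x} = ∅ :=
      Set.eq_empty_of_forall_notMem fun x ⟨t, ⟨l, _⟩, _⟩ => hV.false l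
    rw [this, AddSubgroup.closure_empty, AddSubgroup.mem_bot] at hc
    rw [hc, map_zero]
  | inr hV =>
    let L : (W ⟶ E) → (W ⟶ V) := fun e => if h : ∃ l, l ≫ d = e then h.choose else Classical.arbitrary _
    have key : ∀ x ∈ AddSubgroup.closure {x | ∃ t : W ⟶ pow d (n + 1), Liftable d t ∧ gen t = x},
        (fd d (n + 1)).app (op W) (sop d L (n + 1) x) + sop d L n ((fd d n).app (op W) x) = x := fun x hx => by
      induction hx using AddSubgroup.closure_induction with
      | mem y hy =>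
        obtain ⟨t, ht, rfl⟩ := hy
        refine homotopy_gen d L t ?_
        have ht' : ∃ l : W ⟶ V, l ≫ d = t ≫ pstr d (n + 1) := ht
        simp only [L]
        rw [dif_pos ht']
        exact ht'.choose_spec
      | zero => simp only [map_zero, add_zero]
      | add y z _ _ hy hz => rw [map_add, map_add, map_add, map_add, add_add_add_comm, hy, hz]
      | neg y _ hy => rw [map_neg, map_neg, map_neg, map_neg, ← neg_add, hy]
    refine ⟨sop d L (n + 1) c, ?_⟩
    have := key c hc
    rwa [h0, map_zero, add_zero] at this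

theorem cechExact_of_injective (I : Sheaf J AddCommGrpCat.{u + 1}) [Injective I.obj]
    (hd : ∀ (W : C) (e : W ⟶ E), ∃ R ∈ J W, ∀ ⦃W' : C⦄ (a : W' ⟶ W), R a → ∃ l : W' ⟶ V, l ≫ d = a ≫ e) :
    CechExact d I.obj := by
  intro p z hz
  let φ := fromGen z
  have hcomp : fd d (p + 1) ≫ φ = 0 := fp_hom_ext (by
    show φ.app _ ((fd d (p + 1)).app _ (gen (𝟙 _))) = 0
    rw [fd_gen, map_sum]
    refine Eq.trans ?_ hz
    rw [dC_apply]
    refine Finset.sum_congr rfl fun j _ => ?_
    rw [map_zsmul, Category.id_comp, fromGen_gen])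
  have hker : kernel.ι (fd d p) ≫ φ = 0 := by
    refine NatTrans.ext (funext fun W => AddCommGrpCat.hom_ext (AddMonoidHom.ext fun k => ?_))
    let c := (kernel.ι (fd d p)).app W k
    have h0 : (fd d p).app W c = 0 :=
      ConcreteCategory.congr_hom (NatTrans.congr_app (kernel.condition (fd d p)) W) k
    obtain ⟨R, hR, hmem⟩ := exists_liftable_cover d hd c
    have hsep := ((isSheaf_iff_isSheaf_of_type _ _).1
      (Presheaf.isSheaf_comp_of_isSheaf J _ (CategoryTheory.forget AddCommGrpCat.{u + 1}) I.property) R hR).isSeparatedFor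
    refine hsep.ext fun W' a ha => ?_
    show I.obj.map a.op (φ.app W c) = I.obj.map a.op 0
    rw [← NatTrans.naturality_apply, map_zero]
    obtain ⟨c', hc'⟩ := exists_preimage_of_cycle d (hmem a ha) (by rw [NatTrans.naturality_apply, h0, map_zero])
    rw [← hc']
    exact ConcreteCategory.congr_hom (NatTrans.congr_app hcomp (op W')) c'
  let m := Abelian.factorThruCoimage (fd d p)
  let ψ : fp (pow d p) ⟶ I.obj := Injective.factorThru (cokernel.desc _ φ hker) m
  have hψ : fd d p ≫ ψ = φ := by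
    have e : fd d p = cokernel.π (kernel.ι (fd d p)) ≫ m := (Abelian.coimage.fac (fd d p)).symm
    rw [e, Category.assoc, Injective.comp_factorThru, cokernel.π_desc]
  refine ⟨ψ.app _ (gen (𝟙 _)), ?_⟩
  have := ConcreteCategory.congr_hom (NatTrans.congr_app hψ (op (pow d (p + 1)))) (gen (𝟙 _))
  rw [NatTrans.comp_app, ConcreteCategory.comp_apply, fd_gen, map_sum, fromGen_gen, op_id] at this
  refine Eq.trans ?_ (this.trans (ConcreteCategory.congr_hom (I.obj.map_id _) z))
  rw [dC_apply]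
  refine Finset.sum_congr rfl fun j _ => ?_
  rw [map_zsmul, ← NatTrans.naturality_apply, fp_map_gen, Category.id_comp, Category.comp_id]

end Groth.L09.EtCoh
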