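import Groth.Agent.L09.EtCoh.Pow
import Mathlib.Algebra.Category.ModuleCat.Presheaf.Free
import Mathlib.Algebra.Category.ModuleCat.Sheaf.Abelian
import Mathlib.CategoryTheory.Preadditive.Injective.Basic
import Mathlib.CategoryTheory.Abelian.Basic

/-!
# Injective sheaves of modules have exact Cech complexes
-/

universe u

open CategoryTheory CategoryTheory.Limits Opposite

set_option autoImplicit false
set_option backward.isDefEq.respectTransparency false
set_option backward.isDefEq.respectTransparency.types false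

noncomputable section

namespace Groth.L09.EtCoh.FreeMod

variable {C : Type (u + 1)} [Category.{u} C] {R : Cᵒᵖ ⥤ RingCat.{u + 1}}

/-- The free presheaf of modules on an object. -/
def fm (R : Cᵒᵖ ⥤ RingCat.{u + 1}) (U : C) : PresheafOfModules.{u + 1} R :=
  PresheafOfModules.freeObj (uliftYoneda.{u + 1}.obj U)

/-- A generator. -/
def gen {U W : C} (f : W ⟶ U) : (fm R U).obj (op W) := ModuleCat.freeMk (ULift.up.{u + 1} f)

theorem map_gen {U W W' : C} (h : W' ⟶ W) (f : W ⟶ U) : (fm R U).map h.op (gen f) = gen (h ≫ f) :=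
  ModuleCat.freeDesc_apply _ _

theorem app_gen {U W : C} {P : PresheafOfModules.{u + 1} R} (k : fm R U ⟶ P) (f : W ⟶ U) :
    k.app (op W) (gen f) = P.map f.op (k.app (op U) (gen (𝟙 U))) := by
  rw [← PresheafOfModules.naturality_apply, map_gen, Category.comp_id]

theorem fm_hom_ext {U : C} {P : PresheafOfModules.{u + 1} R} {g g' : fm R U ⟶ P}
    (h : g.app (op U) (gen (𝟙 U)) = g'.app (op U) (gen (𝟙 U))) : g = g' :=
  PresheafOfModules.hom_ext fun W => ModuleCat.free_hom_ext fun f =>
    (app_gen g f.down).trans ((congrArg (P.map f.down.op) h).trans (app_gen g' f.down).symm)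

/-- The map with given value on the generator. -/
def fromGen {U : C} {P : PresheafOfModules.{u + 1} R} (s : P.obj (op U)) : fm R U ⟶ P :=
  PresheafOfModules.freeObjDesc
    ((uliftYonedaEquiv.{u + 1} (X := U) (F := P.presheaf ⋙ CategoryTheory.forget _)).symm s)

theorem fromGen_gen {U W : C} {P : PresheafOfModules.{u + 1} R} (s : P.obj (op U)) (f : W ⟶ U) :
    (fromGen s).app (op W) (gen f) = P.map f.op s :=
  ModuleCat.freeDesc_apply _ _

variable [HasPullbacks C] {E V : C} (d : V ⟶ E)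

/-- The differential. -/
def fd (R : Cᵒᵖ ⥤ RingCat.{u + 1}) (n : ℕ) : fm R (pow d (n + 1)) ⟶ fm R (pow d n) :=
  fromGen (∑ j : Fin (n + 2), (-1 : ℤ) ^ (j : ℕ) • gen (face d n j))

theorem fd_gen (n : ℕ) {W : C} (t : W ⟶ pow d (n + 1)) :
    (fd d R n).app (op W) (gen t) = ∑ j : Fin (n + 2), (-1 : ℤ) ^ (j : ℕ) • gen (R := R) (t ≫ face d n j) := by
  rw [fd, fromGen_gen, map_sum]
  refine Finset.sum_congr rfl fun j _ => ?_
  rw [map_zsmul, map_gen]

open Classical in
/-- The homotopy on generators. -/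
def sgen {W : C} (L : (W ⟶ E) → (W ⟶ V)) {n : ℕ} (t : W ⟶ pow d n) : (fm R (pow d (n + 1))).obj (op W) :=
  if h : L (t ≫ pstr d n) ≫ d = t ≫ pstr d n then gen (cons d (L (t ≫ pstr d n)) t h) else 0

/-- The homotopy. -/
def sop (R : Cᵒᵖ ⥤ RingCat.{u + 1}) {W : C} (L : (W ⟶ E) → (W ⟶ V)) (n : ℕ) :
    (fm R (pow d n)).obj (op W) ⟶ (fm R (pow d (n + 1))).obj (op W) :=
  ModuleCat.freeDesc (↾fun f => sgen d L f.down)

theorem sop_gen {W : C} (L : (W ⟶ E) → (W ⟶ V)) {n : ℕ} (t : W ⟶ pow d n) :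
    sop d R L n (gen t) = sgen d L t :=
  ModuleCat.freeDesc_apply _ _

theorem homotopy_gen {W : C} (L : (W ⟶ E) → (W ⟶ V)) {n : ℕ} (t : W ⟶ pow d (n + 1))
    (ht : L (t ≫ pstr d (n + 1)) ≫ d = t ≫ pstr d (n + 1)) :
    (fd d R (n + 1)).app (op W) (sop d R L (n + 1) (gen t)) + sop d R L n ((fd d R n).app (op W) (gen t)) = gen t := by
  rw [sop_gen, sgen, dif_pos ht, fd_gen, fd_gen, map_sum, Fin.sum_univ_succ, cons_face_zero, Fin.val_zero,
    pow_zero, one_smul, add_assoc, ← Finset.sum_add_distrib]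
  refine (congrArg _ (Finset.sum_eq_zero fun j _ => ?_)).trans (add_zero _)
  have e : (t ≫ face d n j) ≫ pstr d n = t ≫ pstr d (n + 1) := by rw [Category.assoc, face_pstr]
  have ht' : L ((t ≫ face d n j) ≫ pstr d n) ≫ d = (t ≫ face d n j) ≫ pstr d n := by rw [e]; exact ht
  rw [map_zsmul, sop_gen, sgen, dif_pos ht', cons_face_succ, Fin.val_succ, pow_succ, mul_neg_one, neg_smul]
  simp only [e]
  exact neg_add_cancel _

/-- The span of liftable generators. -/
def liftSpan (R : Cᵒᵖ ⥤ RingCat.{u + 1}) (W : C) (n : ℕ) :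
    Submodule (R.obj (op W)) ((fm R (pow d n)).obj (op W)) :=
  Submodule.span _ {x | ∃ t : W ⟶ pow d n, (∃ l : W ⟶ V, l ≫ d = t ≫ pstr d n) ∧ gen t = x}

variable {J : GrothendieckTopology C}

theorem exists_liftable_cover (hd : ∀ (W : C) (e : W ⟶ E), ∃ S ∈ J W, ∀ ⦃W' : C⦄ (a : W' ⟶ W), S a →
      ∃ l : W' ⟶ V, l ≫ d = a ≫ e) {W : C} {n : ℕ} (c : (fm R (pow d n)).obj (op W)) :
    ∃ S ∈ J W, ∀ ⦃W' : C⦄ (a : W' ⟶ W), S a → (fm R (pow d n)).map a.op c ∈ liftSpan d R W' n := by
  induction c using Finsupp.induction_linear with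
  | zero => exact ⟨⊤, J.top_mem W, fun W' a _ => by rw [map_zero]; exact zero_mem _⟩
  | single f r =>
    obtain ⟨S, hS, hl⟩ := hd W (f.down ≫ pstr d n)
    refine ⟨S, hS, fun W' a ha => ?_⟩
    obtain ⟨l, hl⟩ := hl a ha
    rw [show (Finsupp.single f r : (fm R (pow d n)).obj (op W)) = r • gen f.down from
      (Finsupp.smul_single_one f r).symm, PresheafOfModules.map_smul, map_gen]
    exact Submodule.smul_mem _ _ (Submodule.subset_span ⟨_, ⟨l, hl.trans (Category.assoc _ _ _).symm⟩, rfl⟩)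
  | add x y hx hy =>
    obtain ⟨S, hS, hx⟩ := hx
    obtain ⟨S', hS', hy⟩ := hy
    refine ⟨S ⊓ S', J.intersection_covering hS hS', fun W' a ha => ?_⟩
    have e := map_add ((fm R (pow d n)).map a.op).hom x y
    exact (congrArg (· ∈ liftSpan d R W' n) e).mpr (add_mem (hx a ha.1) (hy a ha.2))

theorem exists_preimage_of_cycle {W : C} {n : ℕ} {c : (fm R (pow d (n + 1))).obj (op W)}
    (hc : c ∈ liftSpan d R W (n + 1)) (h0 : (fd d R n).app (op W) c = 0) :
    ∃ c', (fd d R (n + 1)).app (op W) c' = c := by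
  classical
  cases isEmpty_or_nonempty (W ⟶ V) with
  | inl hV =>
    refine ⟨0, ?_⟩
    have : {x : (fm R (pow d (n + 1))).obj (op W) | ∃ t : W ⟶ pow d (n + 1),
        (∃ l : W ⟶ V, l ≫ d = t ≫ pstr d (n + 1)) ∧ gen t = x} = ∅ :=
      Set.eq_empty_of_forall_notMem fun x ⟨t, ⟨l, _⟩, _⟩ => hV.false l
    rw [liftSpan, this, Submodule.span_empty, Submodule.mem_bot] at hc
    rw [hc, map_zero]
  | inr hV =>
    let L : (W ⟶ E) → (W ⟶ V) := fun e => if h : ∃ l, l ≫ d = e then h.choose else Classical.arbitrary _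
    have key : ∀ x ∈ liftSpan d R W (n + 1),
        (fd d R (n + 1)).app (op W) (sop d R L (n + 1) x) + sop d R L n ((fd d R n).app (op W) x) = x := fun x hx => by
      induction hx using Submodule.span_induction with
      | mem y hy =>
        obtain ⟨t, ht, rfl⟩ := hy
        refine homotopy_gen d L t ?_
        simp only [L]
        rw [dif_pos ht]
        exact ht.choose_spec
      | zero => simp only [map_zero, add_zero]
      | add y z _ _ hy hz => rw [map_add, map_add, map_add, map_add, add_add_add_comm, hy, hz]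
      | smul r y _ hy => rw [map_smul, map_smul, map_smul, map_smul, ← smul_add, hy]
    refine ⟨sop d R L (n + 1) c, ?_⟩
    have := key c hc
    rwa [h0, map_zero, add_zero] at this

theorem cechExact_of_injective' (P : PresheafOfModules.{u + 1} R) [Injective P]
    (hsep : Presieve.IsSeparated J (P.presheaf ⋙ CategoryTheory.forget AddCommGrpCat.{u + 1}))
    (hd : ∀ (W : C) (e : W ⟶ E), ∃ S ∈ J W, ∀ ⦃W' : C⦄ (a : W' ⟶ W), S a → ∃ l : W' ⟶ V, l ≫ d = a ≫ e) :
    CechExact d P.presheaf := by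
  intro p z hz
  let φ := fromGen (P := P) z
  have hcomp : fd d R (p + 1) ≫ φ = 0 := fm_hom_ext (by
    show φ.app _ ((fd d R (p + 1)).app _ (gen (𝟙 _))) = 0
    rw [fd_gen, map_sum]
    refine Eq.trans ?_ hz
    rw [dC_apply]
    refine Finset.sum_congr rfl fun j _ => ?_
    rw [map_zsmul, Category.id_comp, fromGen_gen]
    rfl)
  have hker : kernel.ι (fd d R p) ≫ φ = 0 := by
    refine PresheafOfModules.hom_ext fun W => ModuleCat.hom_ext (LinearMap.ext fun k => ?_)
    let c := (kernel.ι (fd d R p)).app W k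
    have h0 : (fd d R p).app W c = 0 :=
      ConcreteCategory.congr_hom ((PresheafOfModules.evaluation R W).congr_map (kernel.condition (fd d R p))) k
    obtain ⟨S, hS, hmem⟩ := exists_liftable_cover d hd c
    refine (hsep S hS).ext fun W' a ha => ?_
    show P.map a.op (φ.app W c) = P.map a.op 0
    rw [← PresheafOfModules.naturality_apply, map_zero]
    obtain ⟨c', hc'⟩ := exists_preimage_of_cycle d (hmem a ha)
      (by rw [PresheafOfModules.naturality_apply, h0, map_zero])
    rw [← hc']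
    exact ConcreteCategory.congr_hom ((PresheafOfModules.evaluation R (op W')).congr_map hcomp) c'
  let m := Abelian.factorThruCoimage (fd d R p)
  let ψ : fm R (pow d p) ⟶ P := Injective.factorThru (cokernel.desc _ φ hker) m
  have hψ : fd d R p ≫ ψ = φ := by
    have e : fd d R p = cokernel.π (kernel.ι (fd d R p)) ≫ m := (Abelian.coimage.fac (fd d R p)).symm
    rw [e, Category.assoc, Injective.comp_factorThru, cokernel.π_desc]
  refine ⟨ψ.app _ (gen (𝟙 _)), ?_⟩
  have := ConcreteCategory.congr_hom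
    ((PresheafOfModules.evaluation R (op (pow d (p + 1)))).congr_map hψ) (gen (𝟙 _))
  change ψ.app _ ((fd d R p).app _ (gen (𝟙 _))) = φ.app _ (gen (𝟙 _)) at this
  rw [fd_gen, map_sum, app_gen φ, fromGen_gen] at this
  refine Eq.trans ?_ (this.trans ?_)
  · rw [dC_apply]
    refine Finset.sum_congr rfl fun j _ => ?_
    rw [map_zsmul, Category.id_comp]
    exact congrArg _ (app_gen ψ (face d p j)).symm
  · exact (ConcreteCategory.congr_hom (P.presheaf.map_id _) _).trans (ConcreteCategory.congr_hom (P.presheaf.map_id _) z)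

end Groth.L09.EtCoh.FreeMod
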