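import Mathlib.Algebra.Category.ModuleCat.Sheaf.Abelian
import Mathlib.Algebra.Category.ModuleCat.Sheaf.Colimits
import Mathlib.Algebra.Category.ModuleCat.Presheaf.Generator
import Mathlib.Algebra.Category.Grp.AB
import Mathlib.Algebra.Category.Grp.FilteredColimits
import Mathlib.CategoryTheory.Abelian.GrothendieckAxioms.FunctorCategory
import Mathlib.CategoryTheory.Abelian.GrothendieckCategory.EnoughInjectives
import Mathlib.CategoryTheory.Generator.Basic
import Mathlib.CategoryTheory.Limits.Preserves.FunctorCategory
import Mathlib.CategoryTheory.Sites.Abelian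

/-!
# Modules on a site with small morphisms form a Grothendieck abelian category
-/

universe u

open CategoryTheory Limits Opposite

set_option autoImplicit false
set_option backward.isDefEq.respectTransparency false
set_option backward.isDefEq.respectTransparency.types false

noncomputable section

namespace Groth.L09.ModGroth

variable {C : Type (u + 1)} [Category.{u} C]

/-- The free presheaves of modules on representable presheaves. -/
abbrev fy (R : Cᵒᵖ ⥤ RingCat.{u + 1}) (X : C) : PresheafOfModules.{u + 1} R :=
  (PresheafOfModules.free R).obj (uliftYoneda.{u + 1}.obj X)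

theorem pMod_isSeparating (R : Cᵒᵖ ⥤ RingCat.{u + 1}) :
    ObjectProperty.IsSeparating (ObjectProperty.ofObj (fy R)) := fun M N f g h => by
  ext U m
  obtain ⟨X⟩ := U
  let σ : uliftYoneda.{u + 1}.obj X ⟶ M.presheaf ⋙ CategoryTheory.forget _ :=
    (uliftYonedaEquiv.{u + 1} (X := X) (F := M.presheaf ⋙ CategoryTheory.forget _)).symm m
  let adj := PresheafOfModules.freeAdjunction R
  have e := congrArg (fun k => (adj.homEquiv _ _ k).app (op X) (ULift.up (𝟙 X)))
    (h _ (ObjectProperty.ofObj_apply _ X) ((adj.homEquiv _ _).symm σ))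
  simp only [Adjunction.homEquiv_naturality_right, Equiv.apply_symm_apply] at e
  have hm : σ.app (op X) (ULift.up (𝟙 X)) = m :=
    (uliftYonedaEquiv.{u + 1} (X := X) (F := M.presheaf ⋙ CategoryTheory.forget _)).apply_symm_apply m
  change f.app (op X) (σ.app (op X) (ULift.up (𝟙 X))) = g.app (op X) (σ.app (op X) (ULift.up (𝟙 X))) at e
  rwa [hm] at e

theorem pMod_hasSeparator (R : Cᵒᵖ ⥤ RingCat.{u + 1}) : HasSeparator (PresheafOfModules.{u + 1} R) :=
  ⟨⟨∐ (fy R), (isSeparator_sigma _).2 (pMod_isSeparating R)⟩⟩

theorem pMod_ab5 (R : Cᵒᵖ ⥤ RingCat.{u + 1}) : AB5OfSize.{u + 1, u + 1} (PresheafOfModules.{u + 1} R) where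
  ofShape J _ _ := by
    have : ReflectsFiniteLimits (PresheafOfModules.toPresheaf.{u + 1} R) :=
      ⟨fun _ _ _ => reflectsLimitsOfShape_of_reflectsIsomorphisms⟩
    exact HasExactColimitsOfShape.domain_of_functor J (PresheafOfModules.toPresheaf R)

variable {J : GrothendieckTopology C} (R : Sheaf J RingCat.{u + 1}) [HasSheafify J AddCommGrpCat.{u + 1}]
  [J.WEqualsLocallyBijective AddCommGrpCat.{u + 1}]

theorem shMod_isGrothendieckAbelian : IsGrothendieckAbelian.{u + 1} (SheafOfModules.{u + 1} R) := by
  have : AB5OfSize.{u + 1, u + 1} (SheafOfModules.{u + 1} R) := ⟨fun K _ _ => by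
    have := pMod_ab5 R.obj
    exact (PresheafOfModules.sheafificationAdjunction (𝟙 R.obj)).hasExactColimitsOfShape K⟩
  have : HasSeparator (SheafOfModules.{u + 1} R) := by
    refine ⟨⟨∐ (fun X => (PresheafOfModules.sheafification (𝟙 R.obj)).obj (fy R.obj X)),
      (isSeparator_sigma _).2 ?_⟩⟩
    intro M N f g h
    let adj := PresheafOfModules.sheafificationAdjunction (𝟙 R.obj)
    apply (SheafOfModules.forget R ⋙ PresheafOfModules.restrictScalars (𝟙 R.obj)).map_injective
    apply pMod_isSeparating R.obj
    intro G hG k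
    cases hG with
    | mk X =>
      have := h _ (ObjectProperty.ofObj_apply _ X) ((adj.homEquiv _ _).symm k)
      have := congrArg (adj.homEquiv _ _) this
      rw [Adjunction.homEquiv_naturality_right, Adjunction.homEquiv_naturality_right, Equiv.apply_symm_apply] at this
      exact this
  have : LocallySmall.{u + 1} (SheafOfModules.{u + 1} R) := ⟨fun _ _ => small_self _⟩
  exact {}

end Groth.L09.ModGroth
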