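import Groth.Agent.L09.EtCoh.FreeMod
import Groth.Agent.L09.EtCoh.ModGroth
import Mathlib.Algebra.Homology.DerivedCategory.Ext.ExactSequences
import Mathlib.Algebra.Homology.DerivedCategory.Ext.EnoughInjectives
import Mathlib.Algebra.Category.ModuleCat.Sheaf.Limits
import Mathlib.CategoryTheory.Sites.EpiMono
import Mathlib.Algebra.Homology.ShortComplex.ModuleCat

/-!
# A vanishing criterion for cohomology of sheaves of modules over a final object
-/

universe w u

open CategoryTheory CategoryTheory.Limits Opposite CategoryTheory.Abelian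

set_option autoImplicit false
set_option linter.style.haveILetI false
set_option backward.isDefEq.respectTransparency false
set_option backward.isDefEq.respectTransparency.types false

noncomputable section

namespace Groth.L09.EtCoh.GenMod

variable {C : Type (u + 1)} [Category.{u} C] [HasPullbacks C] (J : GrothendieckTopology C)

/-- A single morphism is covering. -/
def Cov {V U : C} (d : V ⟶ U) : Prop := Sieve.ofArrows (fun _ : PUnit.{1} => V) (fun _ => d) ∈ J U

theorem Cov.liftable {V U : C} {d : V ⟶ U} (hd : Cov J d) (W : C) (e : W ⟶ U) :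
    ∃ S ∈ J W, ∀ ⦃W' : C⦄ (a : W' ⟶ W), S a → ∃ l : W' ⟶ V, l ≫ d = a ≫ e :=
  ⟨_, J.pullback_stable e hd, fun W' a ha => by
    obtain ⟨i, l, hl⟩ := (Sieve.mem_ofArrows_iff _ _ _).1 ha
    exact ⟨l, hl.symm⟩⟩

variable {J} [HasSheafify J AddCommGrpCat.{u + 1}] [J.WEqualsLocallyBijective AddCommGrpCat.{u + 1}]
  {R : Sheaf J RingCat.{u + 1}} (Aff : C → Prop)

/-- Underlying abelian presheaf of a sheaf of modules. -/
abbrev P (G : SheafOfModules.{u + 1} R) : Cᵒᵖ ⥤ AddCommGrpCat.{u + 1} := G.val.presheaf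

omit [HasPullbacks C] [HasSheafify J AddCommGrpCat.{u + 1}] [J.WEqualsLocallyBijective AddCommGrpCat.{u + 1}] in
theorem isSheaf_types (G : SheafOfModules.{u + 1} R) :
    Presieve.IsSheaf J (P G ⋙ CategoryTheory.forget AddCommGrpCat.{u + 1}) :=
  (isSheaf_iff_isSheaf_of_type _ _).1
    (Presheaf.isSheaf_comp_of_isSheaf J (P G) (CategoryTheory.forget AddCommGrpCat.{u + 1}) G.isSheaf)

/-- Exact Cech complexes on the distinguished objects. -/
def CokM (G : SheafOfModules.{u + 1} R) : Prop :=
  ∀ ⦃U V : C⦄ (d : V ⟶ U), Aff U → Aff V → Cov J d → CechExact d (P G)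

theorem cokM_of_injective (I : SheafOfModules.{u + 1} R) [Injective I] : CokM Aff I := fun U V d _ _ hd => by
  have hinj : Injective ((SheafOfModules.forget R ⋙ PresheafOfModules.restrictScalars (𝟙 R.obj)).obj I) :=
    Injective.injective_of_adjoint (PresheafOfModules.sheafificationAdjunction (𝟙 R.obj)) I
  exact FreeMod.cechExact_of_injective' d
    ((SheafOfModules.forget R ⋙ PresheafOfModules.restrictScalars (𝟙 R.obj)).obj I)
    (isSheaf_types I).isSeparated (Cov.liftable J hd)

/-- Epimorphisms lift locally along a single cover by a distinguished object. -/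
def HasLifts (R : Sheaf J RingCat.{u + 1}) : Prop :=
  ∀ ⦃M N : SheafOfModules.{u + 1} R⦄ (g : M ⟶ N), Epi g → ∀ U, Aff U → ∀ t : N.val.obj (op U),
    ∃ (V : C) (d : V ⟶ U) (s : M.val.obj (op V)), Aff V ∧ Cov J d ∧ g.val.app (op V) s = N.val.map d.op t

variable {Aff}
variable (hpow : ∀ ⦃U V : C⦄ (d : V ⟶ U), Aff U → Aff V → ∀ n, Aff (pow d n))

omit [HasPullbacks C] [HasSheafify J AddCommGrpCat.{u + 1}] [J.WEqualsLocallyBijective AddCommGrpCat.{u + 1}] in
theorem eq_of_cov {G : SheafOfModules.{u + 1} R} {U V : C} {d : V ⟶ U} (hd : Cov J d) {s t : G.val.obj (op U)}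
    (h : G.val.map d.op s = G.val.map d.op t) : s = t := by
  refine ((isSheaf_types G).isSeparated _ hd).ext fun W a ha => ?_
  obtain ⟨i, l, rfl⟩ := (Sieve.mem_ofArrows_iff _ _ _).1 ha
  exact (Functor.map_comp_apply (P G) d.op l.op s).trans ((congrArg ((P G).map l.op) h).trans
    (Functor.map_comp_apply (P G) d.op l.op t).symm)

omit [J.WEqualsLocallyBijective AddCommGrpCat.{u + 1}] [HasSheafify J AddCommGrpCat.{u + 1}] in
theorem exists_of_dC_zero {G : SheafOfModules.{u + 1} R} {U V : C} {d : V ⟶ U} (hd : Cov J d)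
    (s : (P G).obj (op (pow d 0))) (hs : dC d (P G) 0 s = 0) : ∃ r, (P G).map d.op r = s := by
  have hcompat : Presieve.Arrows.Compatible (P G ⋙ CategoryTheory.forget AddCommGrpCat.{u + 1})
      (fun _ : PUnit.{1} => d) (fun _ => s) := by
    intro i j Z gi gj e
    let a : Z ⟶ pow d 1 := cons d gj gi e.symm
    have e0 : a ≫ face d 0 0 = gi := cons_face_zero _ _ _ _
    have e1 : a ≫ face d 0 1 = gj := by
      refine (Category.comp_id _).symm.trans ?_
      show (a ≫ face d 0 1) ≫ π d 0 0 = _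
      rw [Category.assoc, face_π, show (1 : Fin 2).succAbove 0 = 0 from rfl]
      exact cons_π_zero _ _ _ _
    have h := congrArg ((P G).map a.op) hs
    rw [dC_apply, Fin.sum_univ_two, map_zero] at h
    change (P G).map a.op ((1 : ℤ) • (P G).map (face d 0 0).op s + (-1 : ℤ) • (P G).map (face d 0 1).op s) = 0 at h
    rw [map_add, map_zsmul, map_zsmul, ← Functor.map_comp_apply, ← Functor.map_comp_apply, ← op_comp, ← op_comp,
      e0, e1, one_smul, neg_smul, one_smul, add_neg_eq_zero] at h
    exact h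
  obtain ⟨r, hr, -⟩ := ((Presieve.isSheafFor_arrows_iff _ _).mp
    ((Presieve.isSheafFor_iff_generate _).mpr (isSheaf_types G _ hd))) (fun _ => s) hcompat
  exact ⟨r, hr PUnit.unit⟩

omit [HasPullbacks C] in
theorem sect_exact {S : ShortComplex (SheafOfModules.{u + 1} R)} (hS : S.ShortExact) (U : C) :
    Function.Injective (S.f.val.app (op U)) ∧
      ∀ x, S.g.val.app (op U) x = 0 → ∃ z, S.f.val.app (op U) z = x := by
  haveI := hS.mono_f
  let F := SheafOfModules.evaluation.{u + 1} R (op U)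
  haveI : F.PreservesZeroMorphisms := ⟨fun _ _ => rfl⟩
  refine ⟨(ModuleCat.mono_iff_injective (F.map S.f)).1 inferInstance, fun x hx => ?_⟩
  exact ((ShortComplex.ShortExact.moduleCat_exact_iff_function_exact (S.map F)).1
    (hS.exact.map_of_mono_of_preservesKernel F hS.mono_f (by infer_instance)) x).1 hx

omit [HasPullbacks C] in
theorem g_f {S : ShortComplex (SheafOfModules.{u + 1} R)} (U : C) (z : S.X₁.val.obj (op U)) :
    S.g.val.app (op U) (S.f.val.app (op U) z) = 0 :=
  ConcreteCategory.congr_hom ((SheafOfModules.evaluation R (op U)).congr_map S.zero) z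

/-- The underlying map of presheaves. -/
abbrev φP {G H : SheafOfModules.{u + 1} R} (f : G ⟶ H) : P G ⟶ P H := (PresheafOfModules.toPresheaf _).map f.val

theorem surjective_app {S : ShortComplex (SheafOfModules.{u + 1} R)} (hS : S.ShortExact) (h₁ : CokM Aff S.X₁)
    (hl : HasLifts Aff R) (U : C) (hU : Aff U) : Function.Surjective (S.g.val.app (op U)) := by
  intro t
  obtain ⟨V, d, s, hV, hd, hs⟩ := hl S.g hS.epi_g U hU t
  obtain ⟨z, hz⟩ := (sect_exact hS (pow d 1)).2 (dC d (P S.X₂) 0 s) (by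
    refine (dC_naturality d (φP S.g) 0 s).trans ((congrArg (dC d (P S.X₃) 0) hs).trans ?_)
    rw [dC_apply, Fin.sum_univ_two]
    show (1 : ℤ) • (P S.X₃).map (face d 0 0).op ((P S.X₃).map d.op t) +
      (-1 : ℤ) • (P S.X₃).map (face d 0 1).op ((P S.X₃).map d.op t) = 0
    refine (congrArg₂ (fun a b => (1 : ℤ) • a + (-1 : ℤ) • b)
      (Functor.map_comp_apply (P S.X₃) d.op (face d 0 0).op t).symm
      (Functor.map_comp_apply (P S.X₃) d.op (face d 0 1).op t).symm).trans ?_
    rw [← op_comp, ← op_comp, show face d 0 0 ≫ d = face d 0 1 ≫ d from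
      (face_pstr d 0 0).trans (face_pstr d 0 1).symm, neg_smul, add_neg_cancel])
  obtain ⟨y, hy⟩ := h₁ d hU hV hd 0 z ((sect_exact hS _).1 ((dC_naturality d (φP S.f) 1 z).trans
    ((congrArg (dC d (P S.X₂) 1) hz).trans ((dC_dC d (P S.X₂) 0 s).trans (map_zero _).symm))))
  let s' : (P S.X₂).obj (op (pow d 0)) := s - S.f.val.app (op V) y
  have h0 : dC d (P S.X₂) 0 s' = 0 := by
    refine (map_sub (dC d (P S.X₂) 0) s _).trans ?_
    exact (congrArg (fun z => dC d (P S.X₂) 0 s - z) ((dC_naturality d (φP S.f) 0 y).symm.trans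
      ((congrArg (S.f.val.app _) hy).trans hz))).trans (sub_self _)
  obtain ⟨r, hr⟩ := exists_of_dC_zero hd s' h0
  refine ⟨r, eq_of_cov hd ?_⟩
  refine (PresheafOfModules.naturality_apply S.g.val d.op r).symm.trans ((congrArg (S.g.val.app (op V)) hr).trans ?_)
  refine (map_sub (S.g.val.app (op V)).hom s (S.f.val.app (op V) y)).trans ?_
  refine (congrArg₂ (fun a b => a - b) hs (g_f V y)).trans ?_
  exact sub_zero _

include hpow in
theorem cokM_quotient {S : ShortComplex (SheafOfModules.{u + 1} R)} (hS : S.ShortExact) (h₁ : CokM Aff S.X₁)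
    (h₂ : CokM Aff S.X₂) (hl : HasLifts Aff R) : CokM Aff S.X₃ := fun U V d hU hV hd p z hz => by
  obtain ⟨y, hy⟩ := surjective_app hS h₁ hl (pow d (p + 1)) (hpow d hU hV (p + 1)) z
  obtain ⟨a, ha⟩ := (sect_exact hS _).2 (dC d (P S.X₂) (p + 1) y)
    ((dC_naturality d (φP S.g) (p + 1) y).trans ((congrArg (dC d (P S.X₃) (p + 1)) hy).trans hz))
  obtain ⟨b, hb⟩ := h₁ d hU hV hd (p + 1) a ((sect_exact hS _).1 ((dC_naturality d (φP S.f) _ a).trans
    ((congrArg (dC d (P S.X₂) _) ha).trans ((dC_dC d (P S.X₂) _ y).trans (map_zero _).symm))))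
  let y' : (P S.X₂).obj (op (pow d (p + 1))) := y
  obtain ⟨w, hw⟩ := h₂ d hU hV hd p (y' - (φP S.f).app _ b) ((map_sub (dC d (P S.X₂) (p + 1)) y' _).trans
    ((congrArg (fun z => dC d (P S.X₂) (p + 1) y - z) ((dC_naturality d (φP S.f) _ b).symm.trans
      ((congrArg ((φP S.f).app _) hb).trans ha))).trans (sub_self _)))
  refine ⟨(φP S.g).app _ w, (dC_naturality d (φP S.g) p w).symm.trans ((congrArg ((φP S.g).app _) hw).trans ?_)⟩
  refine (map_sub ((φP S.g).app _).hom y' _).trans ?_
  refine (congrArg₂ (fun a b => a - b) hy (g_f _ b)).trans ?_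
  exact sub_zero _

variable {T : C} (hT : IsTerminal T)

include hT in
omit [HasPullbacks C] [HasSheafify J AddCommGrpCat.{u + 1}] [J.WEqualsLocallyBijective AddCommGrpCat.{u + 1}] in
theorem exists_hom_lift {M N : SheafOfModules.{u + 1} R} (g : M ⟶ N) (hg : Function.Surjective (g.val.app (op T)))
    (y : SheafOfModules.unit R ⟶ N) : ∃ k, k ≫ g = y := by
  obtain ⟨s, hs⟩ := hg (y.val.app (op T) (1 : R.obj.obj (op T)))
  let σ : M.sections := ⟨fun Z => M.val.map (hT.from Z.unop).op s, fun {Z Z'} h => by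
    refine (Functor.map_comp_apply M.val.presheaf (hT.from Z.unop).op h s).symm.trans ?_
    exact congrArg (fun a => M.val.presheaf.map a s) (Quiver.Hom.unop_inj (hT.hom_ext _ _))⟩
  refine ⟨M.unitHomEquiv.symm σ, N.unitHomEquiv.injective (Subtype.ext (funext fun Z => ?_))⟩
  have h1 : (M.unitHomEquiv.symm σ).val.app Z (1 : R.obj.obj Z) = σ.1 Z := by
    rw [← SheafOfModules.unitHomEquiv_apply_coe, Equiv.apply_symm_apply]
  show g.val.app Z ((M.unitHomEquiv.symm σ).val.app Z (1 : R.obj.obj Z)) = y.val.app Z (1 : R.obj.obj Z)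
  refine (congrArg (g.val.app Z) h1).trans ((PresheafOfModules.naturality_apply g.val (hT.from Z.unop).op s).trans ?_)
  refine (congrArg (N.val.map _) hs).trans ?_
  exact (N.unitHomEquiv y).2 (hT.from Z.unop).op

include hpow hT in
/-- Vanishing of higher Ext groups out of the structure sheaf. -/
theorem subsingleton_ext [HasExt.{w} (SheafOfModules.{u + 1} R)] (hTA : Aff T) (hl : HasLifts Aff R) (n : ℕ) :
    ∀ (G : SheafOfModules.{u + 1} R), CokM Aff G → Subsingleton (Ext.{w} (SheafOfModules.unit R) G (n + 1)) := by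
  haveI := ModGroth.shMod_isGrothendieckAbelian R
  induction n with
  | zero =>
    intro G hG
    have hC : (ShortComplex.mk (Injective.ι G) (cokernel.π (Injective.ι G)) (cokernel.condition _)).ShortExact :=
      { exact := ShortComplex.cokernelSequence_exact _ }
    refine subsingleton_of_forall_eq 0 fun x => ?_
    obtain ⟨y, rfl⟩ := Ext.covariant_sequence_exact₁ _ hC x (Ext.eq_zero_of_injective _) (zero_add 1)
    obtain ⟨y', rfl⟩ := (Ext.mk₀_bijective _ _).2 y
    obtain ⟨k, hk⟩ := exists_hom_lift hT (cokernel.π (Injective.ι G))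
      (surjective_app hC hG hl T hTA) y'
    rw [← hk, ← Ext.mk₀_comp_mk₀, Ext.comp_assoc_of_second_deg_zero, hC.comp_extClass, Ext.comp_zero]
  | succ n ih =>
    intro G hG
    have hC : (ShortComplex.mk (Injective.ι G) (cokernel.π (Injective.ι G)) (cokernel.condition _)).ShortExact :=
      { exact := ShortComplex.cokernelSequence_exact _ }
    refine subsingleton_of_forall_eq 0 fun x => ?_
    obtain ⟨y, rfl⟩ := Ext.covariant_sequence_exact₁ _ hC x (Ext.eq_zero_of_injective _) (n₀ := n + 1) rfl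
    haveI := ih _ (cokM_quotient hpow hC hG (cokM_of_injective Aff _) hl)
    rw [Subsingleton.elim y 0, Ext.zero_comp]

end Groth.L09.EtCoh.GenMod
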