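import Groth.Agent.L09.EtCoh.Qcoh
import Groth.Agent.L09.ModEt.Ext
import Mathlib.CategoryTheory.Functor.OfSequence
import Mathlib.CategoryTheory.Limits.Types.Limits

/-!
# Limits of surjective systems of quasi-coherent modules have exact Cech complexes
-/

universe u

open CategoryTheory CategoryTheory.Limits AlgebraicGeometry Opposite AlgSp

set_option autoImplicit false
set_option linter.style.haveILetI false
set_option backward.isDefEq.respectTransparency false
set_option backward.isDefEq.respectTransparency.types false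

noncomputable section

namespace Groth.L09.EtCoh

variable {S : Scheme.{u}} {X : Sp S} (M : ℕ → ModEt X) (t : ∀ n, M (n + 1) ⟶ M n)

/-- A morphism on the underlying presheaves. -/
abbrev φm {G H : ModEt X} (f : G ⟶ H) : P G ⟶ P H := ((toAbEt X).map f).hom

theorem step (hM : ∀ n, (M n).IsQuasicoherent) (ht : ∀ n, Epi (t n)) {E V : EtOver X}
    [IsAffine E.obj.left.left] [IsAffine V.obj.left.left] (d : V ⟶ E) (hd : Function.Surjective d.hom.left.left)
    (p n : ℕ) (z : (P (M (n + 1))).obj (op (pow d (p + 1)))) (hz : dC d (P (M (n + 1))) (p + 1) z = 0)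
    (y : (P (M n)).obj (op (pow d p))) (hy : dC d (P (M n)) p y = (φm (t n)).app _ z) :
    ∃ y', dC d (P (M (n + 1))) p y' = z ∧ (φm (t n)).app _ y' = y := by
  haveI := hM n
  haveI := hM (n + 1)
  haveI := ht n
  obtain ⟨a, ha⟩ := cok_of_isQuasicoherent (M (n + 1)) d hd p z hz
  let C : ShortComplex (ModEt X) := ShortComplex.mk (kernel.ι (t n)) (t n) (kernel.condition _)
  have hC : C.ShortExact := { exact := ShortComplex.exact_of_f_is_kernel _ (kernelIsKernel (t n)) }
  haveI : C.X₁.IsQuasicoherent := Groth.L09.ModEt.isQuasicoherent_left hC.exact hC.mono_f (hM (n + 1)) (hM n)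
  have hsurj : ∀ (W : EtOver X) [IsAffine W.obj.left.left], Function.Surjective ((φm (t n)).app (op W)) :=
    fun W _ => Groth.L09.ModEt.surjective_sapp hC W
  have hδ : dC d (P (M n)) p (y - (φm (t n)).app _ a) = 0 := by
    rw [map_sub, ← dC_naturality, ha, hy, sub_self]
  match p, z, hz, y, hy, a, ha, hδ with
  | 0, z, hz, y, hy, a, ha, hδ =>
    have hcd : Groth.L09.ModEt.IsCover (fun _ : PUnit.{u + 1} => d) := fun x =>
      (hd x).elim fun w hw => ⟨PUnit.unit, w, hw⟩
    let δ : ((toAbEt X).obj (M n)).obj.obj (op (pow d 0)) := y - (φm (t n)).app _ a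
    obtain ⟨r, hr⟩ := aexists_glue ((toAbEt X).obj (M n)) hcd (fun _ => δ) fun _ _ => by
      let b : EtOver.pullbackObj d d ⟶ pow d 1 :=
        cons d (EtOver.pullbackFst d d) (EtOver.pullbackSnd d d) (EtOver.pullback_condition d d)
      have e0 : b ≫ face d 0 0 = EtOver.pullbackSnd d d := cons_face_zero _ _ _ _
      have e1 : b ≫ face d 0 1 = EtOver.pullbackFst d d := by
        refine (Category.comp_id _).symm.trans ?_
        show (b ≫ face d 0 1) ≫ π d 0 0 = _
        rw [Category.assoc, face_π, show (1 : Fin 2).succAbove 0 = 0 from rfl]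
        exact cons_π_zero _ _ _ _
      have h := congrArg (ares ((toAbEt X).obj (M n)) b) hδ
      rw [dC_apply, Fin.sum_univ_two, map_zero] at h
      change ares ((toAbEt X).obj (M n)) b ((1 : ℤ) • ares ((toAbEt X).obj (M n)) (face d 0 0) δ +
        (-1 : ℤ) • ares ((toAbEt X).obj (M n)) (face d 0 1) δ) = 0 at h
      rw [map_add, map_zsmul, map_zsmul, ← ares_comp, ← ares_comp, e0, e1, one_smul, neg_smul, one_smul,
        add_neg_eq_zero] at h
      exact h.symm
    obtain ⟨r', hr'⟩ := hsurj E r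
    let s : (P (M (n + 1))).obj (op (pow d 0)) := (P (M (n + 1))).map d.op r'
    have h0 : dC d (P (M (n + 1))) 0 s = 0 := by
      rw [dC_apply, Fin.sum_univ_two]
      show (1 : ℤ) • (P (M (n + 1))).map (face d 0 0).op ((P (M (n + 1))).map d.op r') +
        (-1 : ℤ) • (P (M (n + 1))).map (face d 0 1).op ((P (M (n + 1))).map d.op r') = 0
      refine (congrArg₂ (fun a b => (1 : ℤ) • a + (-1 : ℤ) • b)
        (Functor.map_comp_apply (P (M (n + 1))) d.op (face d 0 0).op r').symm
        (Functor.map_comp_apply (P (M (n + 1))) d.op (face d 0 1).op r').symm).trans ?_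
      rw [← op_comp, ← op_comp, show face d 0 0 ≫ d = face d 0 1 ≫ d from
        (face_pstr d 0 0).trans (face_pstr d 0 1).symm, neg_smul, add_neg_cancel]
    refine ⟨a + s, by rw [map_add, ha, h0, add_zero], ?_⟩
    have hts : (φm (t n)).app _ s = δ :=
      (NatTrans.naturality_apply (φm (t n)) d.op r').trans
        ((congrArg ((P (M n)).map d.op) hr').trans (hr PUnit.unit))
    rw [map_add, hts]
    exact add_sub_cancel ((φm (t n)).app _ a) y
  | q + 1, z, hz, y, hy, a, ha, hδ =>
    obtain ⟨w, hw⟩ := cok_of_isQuasicoherent (M n) d hd q _ hδ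
    haveI := isAffine_pow d q
    obtain ⟨w', hw'⟩ := hsurj (pow d q) w
    refine ⟨a + dC d (P (M (n + 1))) q w', by rw [map_add, ha, dC_dC, add_zero], ?_⟩
    rw [map_add, dC_naturality, hw', hw]
    exact add_sub_cancel ((φm (t n)).app _ a) y

/-- Sections over an object. -/
abbrev secF (Z : EtOver X) : ModEt X ⥤ Type (u + 1) :=
  SheafOfModules.evaluation (OEtRing X) (op Z) ⋙ CategoryTheory.forget _

theorem exists_unique_of_compatible (Z : EtOver X) (y : ∀ n, (secF Z).obj (M n))
    (hy : ∀ n, (secF Z).map (t n) (y (n + 1)) = y n) :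
    ∃! x : (secF Z).obj (limit (Functor.ofOpSequence t)),
      ∀ n, (secF Z).map (limit.π (Functor.ofOpSequence t) (op n)) x = y n := by
  let F := Functor.ofOpSequence t
  have key : ∀ (m n : ℕ) (h : m ≤ n), (secF Z).map (F.map (homOfLE h).op) (y n) = y m := fun m n h => by
    induction n, h using Nat.le_induction with
    | base =>
      rw [show (homOfLE (le_refl m)).op = 𝟙 (op m) from rfl, F.map_id, (secF Z).map_id]
      rfl
    | succ k hk ih =>
      rw [show (homOfLE (hk.trans (Nat.le_add_right k 1))).op =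
        (homOfLE (Nat.le_add_right k 1)).op ≫ (homOfLE hk).op from Subsingleton.elim _ _, F.map_comp,
        Functor.ofOpSequence_map_homOfLE_succ, (secF Z).map_comp]
      exact (congrArg ((secF Z).map _) (hy k)).trans ih
  have hs : (fun j : ℕᵒᵖ => y j.unop) ∈ (F ⋙ secF Z).sections := fun {j j'} h => by
    have : h = (homOfLE (leOfHom h.unop)).op := Subsingleton.elim _ _
    rw [this]
    exact key _ _ _
  obtain ⟨x, hx, hu⟩ := (Types.isLimit_iff _).1 ⟨isLimitOfPreserves (secF Z) (limit.isLimit F)⟩ _ hs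
  exact ⟨x, fun n => hx (op n), fun x' hx' => hu x' fun j => hx' j.unop⟩

theorem cok_limit (hM : ∀ n, (M n).IsQuasicoherent) (ht : ∀ n, Epi (t n)) :
    Cok ((toAbEt X).obj (limit (Functor.ofOpSequence t))) := fun E V _ _ d hd p z hz => by
  let L := limit (Functor.ofOpSequence t)
  let pr : ∀ n, L ⟶ M n := fun n => limit.π (Functor.ofOpSequence t) (op n)
  have hpr : ∀ n, pr (n + 1) ≫ t n = pr n := fun n => by
    have h := limit.w (Functor.ofOpSequence t) (homOfLE (Nat.le_add_right n 1)).op
    rw [Functor.ofOpSequence_map_homOfLE_succ] at h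
    exact h
  let zn : ∀ n, (P (M n)).obj (op (pow d (p + 1))) := fun n => (φm (pr n)).app _ z
  have hzn : ∀ n, dC d (P (M n)) (p + 1) (zn n) = 0 := fun n => by
    rw [← dC_naturality, hz, map_zero]
  have hzt : ∀ n, (φm (t n)).app _ (zn (n + 1)) = zn n := fun n =>
    ConcreteCategory.congr_hom (NatTrans.congr_app ((toAbEt X ⋙ sheafToPresheaf _ _).congr_map (hpr n))
      (op (pow d (p + 1)))) z
  haveI := hM 0
  obtain ⟨y₀, hy₀⟩ := cok_of_isQuasicoherent (M 0) d hd p (zn 0) (hzn 0)
  have hstep : ∀ n (y : {y // dC d (P (M n)) p y = zn n}), ∃ y' : {y // dC d (P (M (n + 1))) p y = zn (n + 1)},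
      (φm (t n)).app _ y'.1 = y.1 := fun n y => by
    obtain ⟨y', h₁, h₂⟩ := step M t hM ht d hd p n (zn (n + 1)) (hzn _) y.1 (y.2.trans (hzt n).symm)
    exact ⟨⟨y', h₁⟩, h₂⟩
  choose next hnext using hstep
  let ys : ∀ n, {y // dC d (P (M n)) p y = zn n} := fun n =>
    Nat.rec (motive := fun n => {y // dC d (P (M n)) p y = zn n}) ⟨y₀, hy₀⟩ (fun n y => next n y) n
  obtain ⟨x, hx, -⟩ := exists_unique_of_compatible M t (pow d p) (fun n => (ys n).1) fun n => hnext n (ys n)
  refine ⟨x, ?_⟩
  obtain ⟨w, -, hu⟩ := exists_unique_of_compatible M t (pow d (p + 1)) zn hzt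
  refine (hu _ fun n => ?_).trans (hu z fun n => rfl).symm
  show (φm (pr n)).app _ (dC d (P L) p x) = zn n
  rw [dC_naturality, show (φm (pr n)).app _ x = (ys n).1 from hx n, (ys n).2]

end Groth.L09.EtCoh
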