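import Groth.Agent.L09.EtCoh.GenMod
import Groth.Agent.L09.EtCoh.Class
import Groth.Prelude.Def_AlgSpD
import Mathlib.CategoryTheory.Limits.Constructions.Over.Basic
import Mathlib.CategoryTheory.Limits.Constructions.Over.Connected
import Mathlib.CategoryTheory.Limits.Preserves.Shapes.Pullbacks

/-!
# Vanishing criterion for modules on the site over an affine object
-/

universe w u v₁ v₂ u₁ u₂ u'

open CategoryTheory CategoryTheory.Limits AlgebraicGeometry Opposite AlgSp CategoryTheory.Abelian

set_option autoImplicit false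
set_option linter.style.haveILetI false
set_option backward.isDefEq.respectTransparency false
set_option backward.isDefEq.respectTransparency.types false

noncomputable section

namespace Groth.L09.EtCoh

section Transfer

variable {C : Type u₁} [Category.{v₁} C] [HasPullbacks C] {D : Type u₂} [Category.{v₂} D] [HasPullbacks D]
  (U : C ⥤ D) [PreservesLimitsOfShape WalkingCospan U] {E V : C} (d : V ⟶ E)

theorem exists_powIso : ∀ n, ∃ θ : U.obj (pow d n) ≅ pow (U.map d) n,
    ∀ i, θ.hom ≫ π (U.map d) n i = U.map (π d n i)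
  | 0 => ⟨Iso.refl _, fun i => (Category.id_comp (𝟙 (U.obj V))).trans (U.map_id V).symm⟩
  | n + 1 => by
    obtain ⟨θ, hθ⟩ := exists_powIso n
    have hw : θ.hom ≫ pstr (U.map d) n = U.map (pstr d n) := by
      rw [← π_w (U.map d) n 0, ← Category.assoc, hθ, ← Functor.map_comp, π_w]
    have h : IsPullback (U.map (pullback.fst d (pstr d n))) (U.map (pullback.snd d (pstr d n)) ≫ θ.hom)
        (U.map d) (pstr (U.map d) n) :=
      ((IsPullback.of_hasPullback d (pstr d n)).map U).of_iso (Iso.refl _) (Iso.refl _) θ (Iso.refl _)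
        (by simp) (by simp) (by simp) (by simp [hw])
    refine ⟨h.isoPullback, fun i => ?_⟩
    refine Fin.cases ?_ (fun j => ?_) i
    · exact h.isoPullback_hom_fst
    · refine (h.isoPullback_hom_snd_assoc _).trans ?_
      rw [Category.assoc, hθ, ← Functor.map_comp]
      rfl

theorem face_powIso {n : ℕ} (θ' : U.obj (pow d (n + 1)) ≅ pow (U.map d) (n + 1)) (θ : U.obj (pow d n) ≅ pow (U.map d) n)
    (h' : ∀ i, θ'.hom ≫ π (U.map d) (n + 1) i = U.map (π d (n + 1) i))
    (h : ∀ i, θ.hom ≫ π (U.map d) n i = U.map (π d n i)) (j : Fin (n + 2)) :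
    θ'.hom ≫ face (U.map d) n j = U.map (face d n j) ≫ θ.hom :=
  pow_hom_ext _ fun i => by
    rw [Category.assoc, Category.assoc, face_π, h', h, ← Functor.map_comp, face_π]

variable {F : Dᵒᵖ ⥤ AddCommGrpCat.{u'}}

theorem cechExact_of_map (hF : CechExact (U.map d) F) : CechExact d (U.op ⋙ F) := by
  choose θ hθ using exists_powIso U d
  have key : ∀ (n : ℕ) (x : F.obj (op (pow (U.map d) n))),
      dC d (U.op ⋙ F) n (F.map (θ n).hom.op x) = F.map (θ (n + 1)).hom.op (dC (U.map d) F n x) := fun n x => by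
    rw [dC_apply, dC_apply, map_sum]
    refine Finset.sum_congr rfl fun j _ => ?_
    rw [map_zsmul]
    refine congrArg (fun z => (-1 : ℤ) ^ (j : ℕ) • z) ?_
    show F.map (U.map (face d n j)).op (F.map (θ n).hom.op x) = _
    rw [← Functor.map_comp_apply, ← Functor.map_comp_apply, ← op_comp, ← op_comp,
      face_powIso U d (θ (n + 1)) (θ n) (hθ (n + 1)) (hθ n) j]
  have hinv : ∀ (n : ℕ) (x : (U.op ⋙ F).obj (op (pow d n))), F.map (θ n).hom.op (F.map (θ n).inv.op x) = x :=
    fun n x => by
      rw [← Functor.map_comp_apply, ← op_comp, Iso.hom_inv_id, op_id]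
      exact ConcreteCategory.congr_hom (F.map_id _) x
  have hinj : ∀ (n : ℕ) (x : F.obj (op (pow (U.map d) n))), F.map (θ n).inv.op (F.map (θ n).hom.op x) = x :=
    fun n x => by
      rw [← Functor.map_comp_apply, ← op_comp, Iso.inv_hom_id, op_id]
      exact ConcreteCategory.congr_hom (F.map_id _) x
  intro p z hz
  have h0 : dC (U.map d) F (p + 1) (F.map (θ (p + 1)).inv.op z) = 0 := by
    rw [← hinj (p + 2) (dC (U.map d) F (p + 1) _), ← key, hinv, hz, map_zero]
  obtain ⟨y, hy⟩ := hF p _ h0
  exact ⟨F.map (θ p).hom.op y, by rw [key, hy, hinv]⟩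

end Transfer

open Groth.L09.ModEt (IsCover sigmaObj sigmaDesc sigmaι)

variable {S : Scheme.{u}} {X : Sp S} (E : EtOver X)

/-- Affine objects over `E`. -/
def AffOn (W : Over E) : Prop := IsAffine W.left.obj.left.left

theorem affOn_pow ⦃U V : Over E⦄ (d : V ⟶ U) (hU : AffOn E U) (hV : AffOn E V) (n : ℕ) :
    AffOn E (pow d n) := by
  obtain ⟨θ, -⟩ := exists_powIso (Over.forget E) d n
  haveI : IsAffine U.left.obj.left.left := hU
  haveI : IsAffine V.left.obj.left.left := hV
  haveI : IsAffine ((EtOver.toScheme X).obj (pow ((Over.forget E).map d) n)) :=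
    isAffine_pow (E := U.left) (V := V.left) d.left n
  exact IsAffine.of_isIso ((EtOver.toScheme X).mapIso θ).hom

theorem ofArrows_mem_over {W : Over E} {ι : Type u'} (V : ι → Over E) (c : ∀ i, V i ⟶ W)
    (hc : IsCover fun i => (c i).left) : Sieve.ofArrows V c ∈ (etTop X).over E W := by
  rw [GrothendieckTopology.mem_over_iff]
  refine (etTop X).superset_covering (fun Z a ha => ?_) (ofArrows_mem_etTop (fun i => (V i).left) (fun i => (c i).left) hc)
  obtain ⟨i, k, rfl⟩ := (Sieve.mem_ofArrows_iff _ _ _).1 ha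
  rw [Sieve.overEquiv_iff]
  refine (Sieve.mem_ofArrows_iff _ _ _).2 ⟨i, Over.homMk k ?_, Over.OverMorphism.ext rfl⟩
  show k ≫ (V i).hom = (k ≫ (c i).left) ≫ W.hom
  rw [Category.assoc, Over.w (c i)]

theorem surjective_of_cov {U V : Over E} (d : V ⟶ U) (hd : GenMod.Cov ((etTop X).over E) d) :
    Function.Surjective d.left.hom.left.left := by
  intro x
  obtain ⟨Z, _, g, hg, z, hz⟩ := Groth.L09.ModEt.exists_refinement
    ((GrothendieckTopology.mem_over_iff _ _).1 hd) x
  obtain ⟨_, k, hk⟩ := (Sieve.mem_ofArrows_iff _ _ _).1 ((Sieve.overEquiv_iff _ g).1 hg)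
  refine ⟨k.left.hom.left.left z, ?_⟩
  rw [← hz]
  exact (congrArg (fun m => m.left.hom.left.left z) hk).symm

/-- A sheaf with exact Cech complexes restricts to one over `E`. -/
theorem cokM_of_cok (N : ModEt X) (hN : Cok ((toAbEt X).obj N)) :
    GenMod.CokM (AffOn E) ((resModEt E).obj N) := fun U V d hU hV hd => by
  haveI : IsAffine U.left.obj.left.left := hU
  haveI : IsAffine V.left.obj.left.left := hV
  exact cechExact_of_map (Over.forget E) d (F := N.val.presheaf) (hN d.left (surjective_of_cov E d hd))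

section Locally

variable {C : Type (u + 1)} [Category.{u} C] {J : GrothendieckTopology C} {R : Sheaf J RingCat.{u + 1}}
  [HasSheafify J AddCommGrpCat.{u + 1}] [J.WEqualsLocallyBijective AddCommGrpCat.{u + 1}]

theorem exists_sieve_lift {M N : SheafOfModules.{u + 1} R} (g : M ⟶ N) [Epi g] (W : C) (t : N.val.obj (op W)) :
    ∃ S ∈ J W, ∀ ⦃V : C⦄ (e : V ⟶ W), S e → ∃ m, g.val.app (op V) m = N.val.map e.op t := by
  let c := cokernel.π g.val
  let F := (PresheafOfModules.sheafification (𝟙 R.obj)).obj (cokernel g.val)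
  let ν : cokernel g.val ⟶ F.val :=
    (PresheafOfModules.sheafificationAdjunction (𝟙 R.obj)).unit.app (cokernel g.val)
  let q : N ⟶ F := (SheafOfModules.fullyFaithfulForget R).preimage (c ≫ ν)
  have hq₀ : q.val = c ≫ ν := (SheafOfModules.fullyFaithfulForget R).map_preimage _
  have hc : ∀ (Z : Cᵒᵖ) (x : N.val.obj Z), c.app Z x = 0 → ∃ m, g.val.app Z m = x := fun Z x h => by
    have hex := (ShortComplex.cokernelSequence_exact g.val).map (PresheafOfModules.evaluation R.obj Z)
    rw [ShortComplex.moduleCat_exact_iff] at hex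
    exact hex x h
  have hq : q = 0 := by
    refine (cancel_epi g).1 (SheafOfModules.hom_ext ?_)
    rw [comp_zero]
    show g.val ≫ q.val = 0
    rw [hq₀, ← Category.assoc, show g.val ≫ c = 0 from cokernel.condition g.val, zero_comp]
  have h0 : (CategoryTheory.toSheafify J (cokernel g.val).presheaf).app (op W) (c.app (op W) t) = 0 := by
    show ν.app (op W) (c.app (op W) t) = 0
    exact ConcreteCategory.congr_hom ((PresheafOfModules.evaluation R.obj (op W)).congr_map
      (hq₀.symm.trans (congrArg (fun k => k.val) hq))) t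
  refine ⟨_, Presheaf.equalizerSieve_mem J (CategoryTheory.toSheafify J (cokernel g.val).presheaf)
    (c.app (op W) t) 0 (by rw [h0, map_zero]), fun V e he => hc (op V) _ ?_⟩
  rw [PresheafOfModules.naturality_apply]
  exact he.trans (map_zero _)

end Locally

theorem hasLifts : GenMod.HasLifts (AffOn E) (OEtOn E) := fun M N g hg U hU t => by
  haveI := hg
  haveI : IsAffine U.left.obj.left.left := hU
  obtain ⟨R, hR, hl⟩ := exists_sieve_lift g U t
  obtain ⟨ι, _, V, c, hV, hcR, hc⟩ :=
    Groth.L09.ModEt.exists_finite_cover ((GrothendieckTopology.mem_over_iff _ _).1 hR)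
  haveI := hV
  let Vo : ι → Over E := fun k => Over.mk (c k ≫ U.hom)
  let co : ∀ k, Vo k ⟶ U := fun k => Over.homMk (c k)
  choose m hm using fun k => hl (co k) ((Sieve.overEquiv_iff _ (c k)).1 (hcR k))
  let σ : Over E := Over.mk (sigmaDesc V c ≫ U.hom)
  let d : σ ⟶ U := Over.homMk (sigmaDesc V c)
  let ι' : ∀ k, Vo k ⟶ σ := fun k => Over.homMk (sigmaι V c k) (by
    show sigmaι V c k ≫ sigmaDesc V c ≫ U.hom = c k ≫ U.hom
    rw [← Category.assoc, Groth.L09.ModEt.sigmaι_desc])
  have hι : Sieve.ofArrows Vo ι' ∈ (etTop X).over E σ :=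
    ofArrows_mem_over E Vo ι' (Groth.L09.ModEt.isCover_sigmaι V c)
  have hcompat : Presieve.Arrows.Compatible (GenMod.P M ⋙ CategoryTheory.forget AddCommGrpCat.{u + 1}) ι' m := by
    intro i j Z gi gj e
    show (GenMod.P M).map gi.op (m i) = (GenMod.P M).map gj.op (m j)
    by_cases hij : i = j
    · subst hij
      haveI : Mono (sigmaι V c i) := ⟨fun a b h => EtOver.hom_ext _ _ (Over.OverMorphism.ext
        ((cancel_mono (Sigma.ι (fun k => (V k).obj.left.left) i)).1 (congrArg (fun k => k.hom.left.left) h)))⟩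
      rw [show gi = gj from Over.OverMorphism.ext
        ((cancel_mono (sigmaι V c i)).1 (congrArg CommaMorphism.left e))]
    · haveI : IsEmpty Z.left.obj.left.left := ⟨fun z => by
        have h := congrArg (fun k => k.left.hom.left.left z) e
        exact hij (congrArg Sigma.fst ((sigmaMk (fun k => (V k).obj.left.left)).injective
          ((sigmaMk_mk (fun k => (V k).obj.left.left) i _).trans
            (h.trans (sigmaMk_mk (fun k => (V k).obj.left.left) j _).symm))))⟩
      exact ((GenMod.isSheaf_types M).isSeparated _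
        (ofArrows_mem_over E (ι := PEmpty.{1}) PEmpty.elim (fun k => k.elim) fun z => isEmptyElim z)).ext
          fun W a ha => ((Sieve.mem_ofArrows_iff _ _ _).1 ha).choose.elim
  obtain ⟨s, hs, -⟩ := ((Presieve.isSheafFor_arrows_iff _ _).mp
    ((Presieve.isSheafFor_iff_generate _).mpr (GenMod.isSheaf_types M _ hι))) m hcompat
  have hd : GenMod.Cov ((etTop X).over E) d := ofArrows_mem_over E _ _ fun x =>
    (Groth.L09.ModEt.surjective_sigmaDesc V c hc x).elim fun w hw => ⟨PUnit.unit, w, hw⟩
  haveI : IsAffine σ.left.obj.left.left := inferInstanceAs (IsAffine (sigmaObj V c).obj.left.left)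
  refine ⟨σ, d, s, ‹IsAffine σ.left.obj.left.left›, hd, ((GenMod.isSheaf_types N).isSeparated _ hι).ext fun W a ha => ?_⟩
  obtain ⟨k, l, rfl⟩ := (Sieve.mem_ofArrows_iff _ _ _).1 ha
  show (GenMod.P N).map (l ≫ ι' k).op (g.val.app (op σ) s) = (GenMod.P N).map (l ≫ ι' k).op ((GenMod.P N).map d.op t)
  rw [op_comp, Functor.map_comp_apply, Functor.map_comp_apply]
  refine congrArg ((GenMod.P N).map l.op) ((NatTrans.naturality_apply (GenMod.φP g) (ι' k).op s).symm.trans
    ((congrArg (g.val.app (op (Vo k))) (hs k)).trans ((hm k).trans ?_)))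
  rw [← Functor.map_comp_apply, ← op_comp]
  exact congrArg (fun a => (GenMod.P N).map a.op t)
    (show co k = ι' k ≫ d from Over.OverMorphism.ext (Groth.L09.ModEt.sigmaι_desc V c k).symm)

/-- Ext groups from the structure sheaf on an affine object. -/
theorem subsingleton_ext_on [HasExt.{w} (ModEtOn E)] (hE : IsAffine E.obj.left.left) (N : ModEt X)
    (hN : Cok ((toAbEt X).obj N)) (n : ℕ) :
    Subsingleton (Ext.{w} (SheafOfModules.unit (OEtOn E)) ((resModEt E).obj N) (n + 1)) :=
  GenMod.subsingleton_ext (R := OEtOn E) (Aff := AffOn E) (fun _ _ d hU hV m => affOn_pow E d hU hV m)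
    (T := Over.mk (𝟙 E)) Over.mkIdTerminal hE (hasLifts E) n _ (cokM_of_cok E N hN)

end Groth.L09.EtCoh
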